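import Mathlib

/-!
# A separable primitive element up to a purely inseparable extension
-/

set_option autoImplicit false
set_option linter.style.haveILetI false
universe u v
open Polynomial IntermediateField

namespace Groth.Agent.H7.GeomIrr

/-- In a finite field extension `L/𝕂` of exponential characteristic `p` there is a separable
element `α` and an exponent `e` such that the `p^e`-th power of every element of `L` is a
polynomial in `α`. -/
theorem exists_separable_primitive (𝕂 : Type u) (L : Type v) [Field 𝕂] [Field L] [Algebra 𝕂 L]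
    [FiniteDimensional 𝕂 L] (p : ℕ) [ExpChar 𝕂 p] :
    ∃ (α : L) (e : ℕ), IsSeparable 𝕂 α ∧ ∀ x : L, ∃ h : 𝕂[X], x ^ p ^ e = aeval α h := by
  let M := separableClosure 𝕂 L
  haveI : IsPurelyInseparable M L := separableClosure.isPurelyInseparable 𝕂 L
  haveI : FiniteDimensional M L := IntermediateField.finiteDimensional_right M
  haveI : FiniteDimensional 𝕂 M := IntermediateField.finiteDimensional_left M
  haveI : ExpChar M p := expChar_of_injective_algebraMap (algebraMap 𝕂 M).injective p
  obtain ⟨α₀, hα₀⟩ := Field.exists_primitive_element 𝕂 M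
  have halg : IsAlgebraic 𝕂 α₀ := Algebra.IsAlgebraic.isAlgebraic α₀
  have htop : Algebra.adjoin 𝕂 {α₀} = ⊤ := Algebra.adjoin_eq_top_of_primitive_element halg hα₀
  refine ⟨(α₀ : L), IsPurelyInseparable.exponent M L, α₀.2, ?_⟩
  intro x
  obtain ⟨m, hm⟩ := IsPurelyInseparable.exponent_def' M p x
  have hmem : m ∈ Algebra.adjoin 𝕂 {α₀} := by rw [htop]; trivial
  rw [Algebra.adjoin_singleton_eq_range_aeval] at hmem
  obtain ⟨h, hh⟩ := hmem
  refine ⟨h, ?_⟩
  rw [← hm, ← hh]
  change (algebraMap M L) ((aeval α₀) h) = (aeval (algebraMap M L α₀)) h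
  rw [aeval_algebraMap_apply]

end Groth.Agent.H7.GeomIrr
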