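import Mathlib
import Groth.Agent.H7.GeomIrr.Field1

/-!
# Field-theoretic data attached to a finite type algebraic extension of domains
-/

set_option autoImplicit false
set_option linter.style.haveILetI false
universe u v
open Polynomial IntermediateField

namespace Groth.Agent.H7.GeomIrr

section
variable (P : Type u) (B : Type v) [CommRing P] [IsDomain P] [CommRing B] [IsDomain B]
    [Algebra P B] [FaithfulSMul P B] [Algebra.IsAlgebraic P B] [Algebra.FiniteType P B]

/-- **Field data.** For a domain `B` algebraic and of finite type over a domain `P` of exponential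
characteristic `p`: there are `θ ∈ B` with a monic polynomial `F ∈ P[X]` vanishing at `θ`, whose
image over the fraction field of `P` is irreducible and separable, an exponent `e` and a nonzero
`g' ∈ P` such that for every `b ∈ B` some `g'^m b^(p^e)` is a polynomial in `θ`. -/
theorem exists_field_data (p : ℕ) [ExpChar P p] :
    ∃ (θ : B) (F : P[X]) (e : ℕ) (g' : P), F.Monic ∧ aeval θ F = 0 ∧
      Irreducible (F.map (algebraMap P (FractionRing P))) ∧
      (F.map (algebraMap P (FractionRing P))).Separable ∧ g' ≠ 0 ∧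
      ∀ b : B, ∃ (m : ℕ) (G : P[X]), algebraMap P B (g' ^ m) * b ^ p ^ e = aeval θ G := by
  classical
  let 𝕂 := FractionRing P
  let L := FractionRing B
  haveI : IsScalarTower P B L := inferInstance
  have hPB : Function.Injective (algebraMap P B) := FaithfulSMul.algebraMap_injective P B
  have hBL : Function.Injective (algebraMap B L) := IsFractionRing.injective B L
  haveI : FaithfulSMul P L := by
    rw [faithfulSMul_iff_algebraMap_injective, IsScalarTower.algebraMap_eq P B L]
    exact hBL.comp hPB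
  have hPL : Function.Injective (algebraMap P L) := FaithfulSMul.algebraMap_injective P L
  letI : Algebra 𝕂 L := FractionRing.liftAlgebra P L
  haveI : IsScalarTower P 𝕂 L := FractionRing.isScalarTower_liftAlgebra P L
  haveI : Algebra.IsAlgebraic P L := (IsFractionRing.isAlgebraic_iff' P B L).mp inferInstance
  haveI : Algebra.IsAlgebraic 𝕂 L :=
    (IsFractionRing.comap_isAlgebraic_iff (A := P) (K := 𝕂) (C := L)).mp inferInstance
  haveI : Algebra.EssFiniteType P L := Algebra.EssFiniteType.comp P B L
  haveI : Algebra.EssFiniteType 𝕂 L := Algebra.EssFiniteType.of_comp P 𝕂 L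
  haveI : Module.Finite 𝕂 L := Algebra.finite_of_essFiniteType_of_isAlgebraic
  haveI : ExpChar 𝕂 p := expChar_of_injective_algebraMap (IsFractionRing.injective P 𝕂) p
  haveI : ExpChar B p := expChar_of_injective_algebraMap hPB p
  obtain ⟨α, e, hαsep, hαpow⟩ := exists_separable_primitive 𝕂 L p
  -- fractions with denominators in `P`
  have hfrac : ∀ ℓ : L, ∃ (c : P) (b : B), c ≠ 0 ∧ algebraMap B L b = algebraMap P L c * ℓ := by
    intro ℓ
    obtain ⟨y', z', rfl⟩ := IsLocalization.exists_mk'_eq (nonZeroDivisors B) ℓ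
    obtain ⟨y, z, hz0, yz_eq⟩ :=
      Algebra.IsAlgebraic.exists_smul_eq_mul P y' (nonZeroDivisors.coe_ne_zero z')
    refine ⟨z, y, hz0, ?_⟩
    rw [IsScalarTower.algebraMap_apply P B L, IsLocalization.mul_mk'_eq_mk'_of_mul,
      eq_comm, IsLocalization.mk'_eq_iff_eq_mul, ← map_mul, ← Algebra.smul_def, yz_eq, mul_comm]
  -- clear the denominators of the minimal polynomial of `α`
  obtain ⟨c₁, b₁, hc₁, hb₁⟩ := hfrac α
  set μ₀ := minpoly 𝕂 α with hμ₀
  obtain ⟨c₂, hc₂, hμ₀'⟩ := IsLocalization.integerNormalization_spec (nonZeroDivisors P) μ₀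
  have hc₂0 : c₂ ≠ 0 := nonZeroDivisors.ne_zero hc₂
  set c := c₁ * c₂ with hc
  have hc0 : c ≠ 0 := mul_ne_zero hc₁ hc₂0
  have hcK : algebraMap P 𝕂 c ≠ 0 := fun h => hc0 (IsFractionRing.injective P 𝕂 (h.trans (map_zero _).symm))
  set θL : L := algebraMap P 𝕂 c • α with hθL
  have hθL' : θL = algebraMap P L c * α := by
    rw [hθL, Algebra.smul_def, ← IsScalarTower.algebraMap_apply]
  let θ : B := algebraMap P B c₂ * b₁
  have hθ : algebraMap B L θ = θL := by
    rw [hθL', map_mul, hb₁, ← IsScalarTower.algebraMap_apply, hc, map_mul]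
    ring
  have hαint : IsIntegral 𝕂 α := Algebra.IsIntegral.isIntegral α
  have hμ : minpoly 𝕂 θL = μ₀.scaleRoots (algebraMap P 𝕂 c) :=
    IsIntegrallyClosed.minpoly_smul hcK hαint
  have hθLint : IsIntegral 𝕂 θL := Algebra.IsIntegral.isIntegral θL
  -- the minimal polynomial of `θL` has coefficients in `P`
  have hlifts : minpoly 𝕂 θL ∈ Polynomial.lifts (algebraMap P 𝕂) := by
    rw [Polynomial.lifts_iff_coeff_lifts]
    intro i
    rw [hμ, coeff_scaleRoots]
    rcases lt_trichotomy i μ₀.natDegree with hi | hi | hi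
    · have h1 : algebraMap P 𝕂 c₂ * μ₀.coeff i ∈ Set.range (algebraMap P 𝕂) := by
        have : ((IsLocalization.integerNormalization (nonZeroDivisors P) μ₀).map
            (algebraMap P 𝕂)).coeff i = (c₂ • μ₀).coeff i := by rw [hμ₀']
        rw [coeff_map, coeff_smul, Algebra.smul_def] at this
        exact ⟨_, this⟩
      obtain ⟨a, ha⟩ := h1
      refine ⟨a * c₁ * c ^ (μ₀.natDegree - i - 1), ?_⟩
      have hexp : μ₀.natDegree - i = (μ₀.natDegree - i - 1) + 1 := by omega
      rw [map_mul, map_mul, ha, map_pow, hexp, pow_succ, hc, map_mul]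
      have : μ₀.natDegree - i - 1 + 1 - 1 = μ₀.natDegree - i - 1 := by omega
      rw [this]
      ring
    · rw [hi, Nat.sub_self, pow_zero, mul_one, coeff_natDegree,
        (minpoly.monic hαint).leadingCoeff]
      exact ⟨1, map_one _⟩
    · rw [coeff_eq_zero_of_natDegree_lt hi, zero_mul]
      exact ⟨0, map_zero _⟩
  obtain ⟨F, hFmap, -, hFmonic⟩ :=
    Polynomial.lifts_and_natDegree_eq_and_monic hlifts (minpoly.monic hθLint)
  -- `θL` is separable
  have hθLsep : IsSeparable 𝕂 θL := by
    have h1 : α ∈ separableClosure 𝕂 L := hαsep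
    have h2 : θL ∈ separableClosure 𝕂 L := by
      rw [hθL]
      exact IntermediateField.smul_mem _ h1
    exact h2
  have hFθ : aeval θ F = 0 := by
    apply hBL
    rw [map_zero, ← aeval_algebraMap_apply, hθ]
    have : aeval θL F = aeval θL (F.map (algebraMap P 𝕂)) := by
      rw [aeval_map_algebraMap]
    rw [this, hFmap, minpoly.aeval]
  -- polynomials in `α` are polynomials in `θL`
  have hαθ : ∀ h : 𝕂[X], ∃ h' : 𝕂[X], aeval α h = aeval θL h' := by
    intro h
    refine ⟨h.comp (C (algebraMap P 𝕂 c)⁻¹ * X), ?_⟩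
    rw [aeval_comp, map_mul, aeval_C, aeval_X, hθL, Algebra.smul_def, ← mul_assoc,
      ← map_mul, inv_mul_cancel₀ hcK, map_one, one_mul]
  -- generators
  obtain ⟨S, hS⟩ := (inferInstance : Algebra.FiniteType P B).out
  have hgen : ∀ x : B, ∃ (b : P) (H : P[X]), b ≠ 0 ∧ algebraMap P B b * x ^ p ^ e = aeval θ H := by
    intro x
    obtain ⟨h, hh⟩ := hαpow (algebraMap B L x)
    obtain ⟨h', hh'⟩ := hαθ h
    obtain ⟨b, hb, hH⟩ := IsLocalization.integerNormalization_spec (nonZeroDivisors P) h'
    refine ⟨b, IsLocalization.integerNormalization (nonZeroDivisors P) h',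
      nonZeroDivisors.ne_zero hb, ?_⟩
    apply hBL
    rw [map_mul, map_pow, hh, hh', ← aeval_algebraMap_apply, hθ,
      ← IsScalarTower.algebraMap_apply]
    have : aeval θL (IsLocalization.integerNormalization (nonZeroDivisors P) h') =
        aeval θL ((IsLocalization.integerNormalization (nonZeroDivisors P) h').map
          (algebraMap P 𝕂)) := by
      rw [aeval_map_algebraMap]
    have hH' : (IsLocalization.integerNormalization (nonZeroDivisors P) h').map (algebraMap P 𝕂) =
        C (algebraMap P 𝕂 b) * h' := by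
      rw [hH, Algebra.smul_def]; rfl
    rw [this, hH', map_mul, aeval_C, ← IsScalarTower.algebraMap_apply]
  choose bx Hx hbx hHx using hgen
  let g' : P := ∏ x ∈ S, bx x
  have hg' : g' ≠ 0 := Finset.prod_ne_zero_iff.mpr fun x _ => hbx x
  refine ⟨θ, F, e, g', hFmonic, hFθ, ?_, ?_, hg', ?_⟩
  · rw [hFmap]; exact minpoly.irreducible hθLint
  · rw [hFmap]; exact hθLsep
  · -- the subalgebra of good elements
    let 𝒮 : Subalgebra P B :=
      { carrier := {b | ∃ (m : ℕ) (G : P[X]), algebraMap P B (g' ^ m) * b ^ p ^ e = aeval θ G}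
        mul_mem' := by
          rintro a b ⟨m₁, G₁, h₁⟩ ⟨m₂, G₂, h₂⟩
          refine ⟨m₁ + m₂, G₁ * G₂, ?_⟩
          rw [map_mul, ← h₁, ← h₂, pow_add, map_mul, mul_pow]
          ring
        add_mem' := by
          rintro a b ⟨m₁, G₁, h₁⟩ ⟨m₂, G₂, h₂⟩
          refine ⟨m₁ + m₂, C (g' ^ m₂) * G₁ + C (g' ^ m₁) * G₂, ?_⟩
          rw [add_pow_expChar_pow, map_add, map_mul, map_mul, aeval_C, aeval_C, ← h₁, ← h₂,
            pow_add, map_mul]
          ring
        algebraMap_mem' := by
          intro r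
          refine ⟨0, C (r ^ p ^ e), ?_⟩
          rw [pow_zero, map_one, one_mul, aeval_C, map_pow] }
    have hle : Algebra.adjoin P (S : Set B) ≤ 𝒮 := by
      rw [Algebra.adjoin_le_iff]
      intro x hx
      refine ⟨1, C (∏ y ∈ S.erase x, bx y) * Hx x, ?_⟩
      rw [map_mul, aeval_C, ← hHx x, pow_one]
      have : g' = (∏ y ∈ S.erase x, bx y) * bx x := (Finset.prod_erase_mul S bx hx).symm
      rw [this, map_mul]
      ring
    intro b
    have : b ∈ 𝒮 := hle (by rw [hS]; trivial)
    exact this

end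

end Groth.Agent.H7.GeomIrr
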