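import Mathlib

/-!
# A criterion for the nilradical to be prime

`T` an integrally closed domain, `F ∈ T[X]` monic irreducible, `R` a `T[X]`-algebra (through `ψ`)
killed by `F`, torsion free over `T`, such that a `q`-th power of every element of `R` comes from
`T[X]` up to a nonzero element of `T`. Then the nilradical of `R` is prime.
-/

set_option autoImplicit false
set_option linter.style.haveILetI false
universe u v
open Polynomial

namespace Groth.Agent.H7.GeomIrr

section
variable {T : Type u} [CommRing T] [IsDomain T] {R : Type v} [CommRing R]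
  (𝕂 : Type*) [Field 𝕂] [Algebra T 𝕂] [IsFractionRing T 𝕂]
  (ψ : T[X] →+* R) (F : T[X])

/-- if `ψ G = 0` then `F` divides `G` over the fraction field -/
theorem dvd_map_of_map_eq_zero [Nontrivial R]
    (hFirr : Irreducible (F.map (algebraMap T 𝕂))) (hFψ : ψ F = 0)
    (htf : ∀ (h : T) (r : R), h ≠ 0 → ψ (C h) * r = 0 → r = 0)
    (G : T[X]) (hG : ψ G = 0) :
    F.map (algebraMap T 𝕂) ∣ G.map (algebraMap T 𝕂) := by
  classical
  by_contra hnd
  have hcop : IsCoprime (F.map (algebraMap T 𝕂)) (G.map (algebraMap T 𝕂)) :=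
    (hFirr.coprime_iff_not_dvd).mpr hnd
  obtain ⟨U, V, hUV⟩ := hcop
  obtain ⟨bU, hbU, hU⟩ := IsLocalization.integerNormalization_spec (nonZeroDivisors T) U
  obtain ⟨bV, hbV, hV⟩ := IsLocalization.integerNormalization_spec (nonZeroDivisors T) V
  set U' := IsLocalization.integerNormalization (nonZeroDivisors T) U
  set V' := IsLocalization.integerNormalization (nonZeroDivisors T) V
  have hinj : Function.Injective (Polynomial.map (algebraMap T 𝕂)) :=
    Polynomial.map_injective _ (IsFractionRing.injective T 𝕂)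
  have key : C bV * U' * F + C bU * V' * G = C (bU * bV) := by
    apply hinj
    simp only [Polynomial.map_add, Polynomial.map_mul, Polynomial.map_C, hU, hV]
    have h1 : (bU • U : 𝕂[X]) = C (algebraMap T 𝕂 bU) * U := by
      rw [Algebra.smul_def]; rfl
    have h2 : (bV • V : 𝕂[X]) = C (algebraMap T 𝕂 bV) * V := by
      rw [Algebra.smul_def]; rfl
    rw [h1, h2, map_mul, C_mul]
    linear_combination (C (algebraMap T 𝕂 bU) * C (algebraMap T 𝕂 bV)) * hUV
  have h0 : ψ (C (bU * bV)) = 0 := by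
    have e1 : ψ (C bV * U' * F) = 0 := by rw [map_mul, hFψ, mul_zero]
    have e2 : ψ (C bU * V' * G) = 0 := by rw [map_mul, hG, mul_zero]
    rw [← key, map_add, e1, e2, add_zero]
  have hb : bU * bV ≠ 0 :=
    mul_ne_zero (nonZeroDivisors.ne_zero hbU) (nonZeroDivisors.ne_zero hbV)
  have := htf (bU * bV) 1 hb (by rw [h0, zero_mul])
  exact one_ne_zero this

/-- if `F` divides `G` over the fraction field then a nonzero multiple of `G` is killed by `ψ` -/
theorem exists_ne_zero_map_mul_eq_zero (hFψ : ψ F = 0) (G : T[X])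
    (hdvd : F.map (algebraMap T 𝕂) ∣ G.map (algebraMap T 𝕂)) :
    ∃ b : T, b ≠ 0 ∧ ψ (C b) * ψ G = 0 := by
  classical
  obtain ⟨W, hW⟩ := hdvd
  obtain ⟨b, hb, hW'⟩ := IsLocalization.integerNormalization_spec (nonZeroDivisors T) W
  set W' := IsLocalization.integerNormalization (nonZeroDivisors T) W
  have hinj : Function.Injective (Polynomial.map (algebraMap T 𝕂)) :=
    Polynomial.map_injective _ (IsFractionRing.injective T 𝕂)
  have key : C b * G = F * W' := by
    apply hinj
    have h1 : (b • W : 𝕂[X]) = C (algebraMap T 𝕂 b) * W := by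
      rw [Algebra.smul_def]; rfl
    rw [Polynomial.map_mul, Polynomial.map_mul, Polynomial.map_C, hW, hW', h1]
    ring
  refine ⟨b, nonZeroDivisors.ne_zero hb, ?_⟩
  rw [← map_mul, key, map_mul, hFψ, zero_mul]

/-- **The nilradical is prime.** -/
theorem nilradical_isPrime_of_irreducible [Nontrivial R]
    (hFirr : Irreducible (F.map (algebraMap T 𝕂))) (hFψ : ψ F = 0)
    (htf : ∀ (h : T) (r : R), h ≠ 0 → ψ (C h) * r = 0 → r = 0)
    (q : ℕ) (hq : 0 < q)
    (hpow : ∀ r : R, ∃ (h : T) (G : T[X]), h ≠ 0 ∧ ψ (C h) * r ^ q = ψ G) :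
    (nilradical R).IsPrime := by
  classical
  rw [Ideal.isPrime_iff]
  refine ⟨?_, ?_⟩
  · rw [Ne, Ideal.eq_top_iff_one, mem_nilradical]
    rintro ⟨n, hn⟩
    rw [one_pow] at hn
    exact one_ne_zero hn
  · intro x y hxy
    rw [mem_nilradical] at hxy
    obtain ⟨N, hN⟩ := hxy
    obtain ⟨h₁, G₁, hh₁, e₁⟩ := hpow x
    obtain ⟨h₂, G₂, hh₂, e₂⟩ := hpow y
    have hz : ψ ((G₁ * G₂) ^ N) = 0 := by
      rw [map_pow, map_mul, ← e₁, ← e₂]
      have : ψ (C h₁) * x ^ q * (ψ (C h₂) * y ^ q) = (ψ (C h₁) * ψ (C h₂)) * ((x * y)) ^ q := by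
        ring
      rw [this, mul_pow, ← pow_mul, mul_comm q N, pow_mul, hN, zero_pow hq.ne', mul_zero]
    have hdvd := dvd_map_of_map_eq_zero 𝕂 ψ F hFirr hFψ htf _ hz
    rw [Polynomial.map_pow, Polynomial.map_mul] at hdvd
    have hprime : Prime (F.map (algebraMap T 𝕂)) := hFirr.prime
    have hor := (hprime.dvd_of_dvd_pow hdvd)
    rcases hprime.dvd_or_dvd hor with h | h
    · left
      obtain ⟨b, hb, hb0⟩ := exists_ne_zero_map_mul_eq_zero 𝕂 ψ F hFψ G₁ h
      rw [← e₁, ← mul_assoc, ← map_mul, ← C_mul] at hb0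
      have := htf (b * h₁) (x ^ q) (mul_ne_zero hb hh₁) hb0
      rw [mem_nilradical]
      exact ⟨q, this⟩
    · right
      obtain ⟨b, hb, hb0⟩ := exists_ne_zero_map_mul_eq_zero 𝕂 ψ F hFψ G₂ h
      rw [← e₂, ← mul_assoc, ← map_mul, ← C_mul] at hb0
      have := htf (b * h₂) (y ^ q) (mul_ne_zero hb hh₂) hb0
      rw [mem_nilradical]
      exact ⟨q, this⟩

end

end Groth.Agent.H7.GeomIrr
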