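import Mathlib
import Groth.Agent.H7.GeomIrr.NilPrime

/-!
# Irreducibility after a flat base change from primality of the nilradical

`B` a domain containing a domain `P`, `θ ∈ B` a root of a monic `F₀ ∈ P[X]` which is irreducible
and separable over the fraction field of `P`. If `T` is a flat `P`-algebra which is a domain, and
the nilradical of `T ⊗[P] B` is prime, then `F₀` stays irreducible in `T[X]`.
-/

set_option autoImplicit false
set_option linter.style.haveILetI false
universe u v w
open Polynomial TensorProduct

namespace Groth.Agent.H7.GeomIrr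

section
variable {P : Type u} {B : Type v} [CommRing P] [IsDomain P] [CommRing B] [IsDomain B]
  [Algebra P B] [FaithfulSMul P B] (θ : B) (F₀ : P[X])

/-- a polynomial of small degree vanishing at `θ` is zero -/
theorem eq_zero_of_aeval_eq_zero_of_degree_lt (hθ : aeval θ F₀ = 0)
    (hirr : Irreducible (F₀.map (algebraMap P (FractionRing P))))
    (Q : P[X]) (hQ : aeval θ Q = 0) (hdeg : Q.degree < F₀.degree) : Q = 0 := by
  have hinj : Function.Injective (algebraMap P (FractionRing P)) :=
    IsFractionRing.injective P (FractionRing P)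
  have hPB : Function.Injective (algebraMap P B) := FaithfulSMul.algebraMap_injective P B
  have hdvd := dvd_map_of_map_eq_zero (FractionRing P) (aeval θ : P[X] →ₐ[P] B).toRingHom F₀ hirr
    hθ (by
      intro h r hh hr
      have : algebraMap P B h * r = 0 := by simpa using hr
      rcases mul_eq_zero.mp this with h0 | h0
      · exact absurd (hPB (by rw [h0, map_zero])) hh
      · exact h0) Q hQ
  have h0 : Q.map (algebraMap P (FractionRing P)) = 0 := by
    apply Polynomial.eq_zero_of_dvd_of_degree_lt hdvd
    rw [Polynomial.degree_map_eq_of_injective hinj, Polynomial.degree_map_eq_of_injective hinj]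
    exact hdeg
  exact (Polynomial.map_eq_zero_iff hinj).mp h0

/-- the powers of `θ` below the degree of `F₀` are linearly independent -/
theorem linearIndependent_pow_of_irreducible (hθ : aeval θ F₀ = 0)
    (hirr : Irreducible (F₀.map (algebraMap P (FractionRing P)))) :
    LinearIndependent P (fun i : Fin F₀.natDegree => θ ^ (i : ℕ)) := by
  classical
  rw [Fintype.linearIndependent_iff]
  intro c hc i
  set Q : P[X] := ∑ i : Fin F₀.natDegree, C (c i) * X ^ (i : ℕ) with hQdef
  have hF0 : F₀ ≠ 0 := by
    rintro rfl
    simp at hirr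
  have hQ : aeval θ Q = 0 := by
    rw [hQdef, map_sum, ← hc]
    refine Finset.sum_congr rfl fun j _ => ?_
    rw [map_mul, aeval_C, map_pow, aeval_X, Algebra.smul_def]
  have hdeg : Q.degree < F₀.degree := by
    rw [Polynomial.degree_eq_natDegree hF0]
    exact Polynomial.degree_sum_fin_lt c
  have hQ0 := eq_zero_of_aeval_eq_zero_of_degree_lt θ F₀ hθ hirr Q hQ hdeg
  have hcoeff : Q.coeff (i : ℕ) = c i := by
    rw [hQdef, Polynomial.finsetSum_coeff]
    rw [Finset.sum_eq_single i]
    · simp
    · intro j _ hji
      rw [Polynomial.coeff_C_mul, Polynomial.coeff_X_pow, if_neg, mul_zero]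
      exact fun h => hji (Fin.ext h.symm)
    · intro h
      exact absurd (Finset.mem_univ i) h
  rw [← hcoeff, hQ0, Polynomial.coeff_zero]

end

section
variable {P : Type u} {B : Type v} {T : Type w} [CommRing P] [CommRing B]
  [Algebra P B] [CommRing T] [Algebra P T]

/-- the evaluation `T[X] → T ⊗[P] B` at `1 ⊗ θ` -/
noncomputable def evalTensor (θ : B) : T[X] →+* (T ⊗[P] B) :=
  Polynomial.eval₂RingHom (algebraMap T (T ⊗[P] B)) ((1 : T) ⊗ₜ[P] θ)

theorem evalTensor_C (θ : B) (t : T) : evalTensor (P := P) θ (C t) = t ⊗ₜ[P] (1 : B) := by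
  simp [evalTensor, Algebra.TensorProduct.algebraMap_apply]

theorem evalTensor_monomial (θ : B) (n : ℕ) (t : T) :
    evalTensor (P := P) θ (monomial n t) = t ⊗ₜ[P] (θ ^ n) := by
  simp [evalTensor, Algebra.TensorProduct.algebraMap_apply, Polynomial.eval₂_monomial,
    Algebra.TensorProduct.tmul_pow]

theorem evalTensor_map (θ : B) (G : P[X]) :
    evalTensor (P := P) θ (G.map (algebraMap P T)) = (1 : T) ⊗ₜ[P] (aeval θ G) := by
  have : evalTensor (P := P) θ (G.map (algebraMap P T)) =
      Polynomial.eval₂ ((algebraMap T (T ⊗[P] B)).comp (algebraMap P T))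
        ((1 : T) ⊗ₜ[P] θ) G := by
    simp [evalTensor, Polynomial.eval₂_map]
  rw [this]
  have h2 : (algebraMap T (T ⊗[P] B)).comp (algebraMap P T) =
      (Algebra.TensorProduct.includeRight : B →ₐ[P] (T ⊗[P] B)).toRingHom.comp
        (algebraMap P B) := by
    ext x
    simp [Algebra.algebraMap_eq_smul_one]
  rw [h2]
  have h3 : (1 : T) ⊗ₜ[P] θ =
      (Algebra.TensorProduct.includeRight : B →ₐ[P] (T ⊗[P] B)).toRingHom θ := rfl
  rw [h3, ← Polynomial.hom_eval₂]
  rfl

end

section
variable {P : Type u} {B : Type v} {T : Type w} [CommRing P] [IsDomain P] [CommRing B] [IsDomain B]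
  [Algebra P B] [FaithfulSMul P B] [CommRing T] [IsDomain T] [Algebra P T] [FaithfulSMul P T]
  [Module.Flat P T]

/-- **Step 5'.** -/
theorem irreducible_map_of_nilradical_isPrime (θ : B) (F₀ : P[X]) (hmonic : F₀.Monic)
    (hθ : aeval θ F₀ = 0)
    (hirr : Irreducible (F₀.map (algebraMap P (FractionRing P))))
    (hsep : (F₀.map (algebraMap P (FractionRing P))).Separable)
    (hnil : (nilradical (T ⊗[P] B)).IsPrime) :
    Irreducible (F₀.map (algebraMap P T)) := by
  classical
  set F_T := F₀.map (algebraMap P T) with hFT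
  have hFTm : F_T.Monic := hmonic.map _
  have hPT : Function.Injective (algebraMap P T) := FaithfulSMul.algebraMap_injective P T
  have hdegF : F_T.natDegree = F₀.natDegree := hmonic.natDegree_map _
  have hdpos : 0 < F₀.natDegree := by
    have := hirr.natDegree_pos
    rwa [hmonic.natDegree_map] at this
  set ψ : T[X] →+* (T ⊗[P] B) := evalTensor (P := P) θ with hψ
  have hψF : ψ F_T = 0 := by rw [hψ, hFT, evalTensor_map, hθ, tmul_zero]
  -- linear independence after base change
  have hLI : LinearIndependent T (fun i : Fin F₀.natDegree => (1 : T) ⊗ₜ[P] (θ ^ (i : ℕ))) :=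
    Module.Flat.linearIndependent_one_tmul (linearIndependent_pow_of_irreducible θ F₀ hθ hirr)
  -- kernel of `ψ`
  have key : ∀ Q : T[X], ψ Q = 0 → F_T ∣ Q := by
    intro Q hQ
    have hdecomp := Polynomial.modByMonic_add_div Q F_T
    set r := Q %ₘ F_T with hr
    have hψr : ψ r = 0 := by
      have := congrArg ψ hdecomp
      rw [map_add, map_mul, hψF, zero_mul, add_zero, hQ] at this
      exact this
    have hrdeg : r.natDegree < F₀.natDegree := by
      rw [← hdegF]
      apply Polynomial.natDegree_modByMonic_lt _ hFTm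
      intro h1
      rw [h1, natDegree_one] at hdegF
      omega
    have hr0 : r = 0 := by
      have hsum := Polynomial.as_sum_range' r F₀.natDegree hrdeg
      have h2 : ψ r = ∑ i : Fin F₀.natDegree, r.coeff (i : ℕ) • ((1 : T) ⊗ₜ[P] (θ ^ (i : ℕ))) := by
        conv_lhs => rw [hsum]
        rw [map_sum, ← Fin.sum_univ_eq_sum_range
          (fun i => ψ (monomial i (r.coeff i))) F₀.natDegree]
        refine Finset.sum_congr rfl fun i _ => ?_
        rw [hψ, evalTensor_monomial, TensorProduct.smul_tmul', smul_eq_mul, mul_one]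
      rw [h2] at hψr
      have hall := (Fintype.linearIndependent_iff.mp hLI) (fun i => r.coeff (i : ℕ)) hψr
      ext n
      rw [Polynomial.coeff_zero]
      by_cases hn : n < F₀.natDegree
      · exact hall ⟨n, hn⟩
      · exact Polynomial.coeff_eq_zero_of_natDegree_lt (by omega)
    rw [hr0, zero_add] at hdecomp
    exact ⟨_, hdecomp.symm⟩
  -- separability over the fraction field of `T`
  set 𝕃 := FractionRing T
  have hTL : Function.Injective (algebraMap T 𝕃) := IsFractionRing.injective T 𝕃
  have hsepL : (F_T.map (algebraMap T 𝕃)).Separable := by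
    have hinj : Function.Injective ((algebraMap T 𝕃).comp (algebraMap P T)) := hTL.comp hPT
    let φ : FractionRing P →+* 𝕃 := IsFractionRing.lift (A := P) (K := FractionRing P)
      (g := (algebraMap T 𝕃).comp (algebraMap P T)) hinj
    have hφ : φ.comp (algebraMap P (FractionRing P)) = (algebraMap T 𝕃).comp (algebraMap P T) := by
      ext x
      simp [φ]
    have := hsep.map (f := φ)
    rwa [Polynomial.map_map, hφ, ← Polynomial.map_map] at this
  -- the auxiliary symmetric statement
  have aux : ∀ G H : T[X], G.Monic → H.Monic → G * H = F_T → IsNilpotent (ψ G) →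
      H.natDegree = 0 := by
    intro G H hG hH hGH ⟨N, hN⟩
    have h1 : F_T ∣ G ^ (N + 1) := by
      apply key
      rw [map_pow, pow_succ, hN, zero_mul]
    have h2 : F_T.map (algebraMap T 𝕃) ∣ (G.map (algebraMap T 𝕃)) ^ (N + 1) := by
      rw [← Polynomial.map_pow]
      exact Polynomial.map_dvd _ h1
    have h3 : F_T.map (algebraMap T 𝕃) ∣ G.map (algebraMap T 𝕃) :=
      (hsepL.squarefree.dvd_pow_iff_dvd (Nat.succ_ne_zero N)).mp h2
    have hGne : G.map (algebraMap T 𝕃) ≠ 0 := (hG.map _).ne_zero
    have h4 := Polynomial.natDegree_le_of_dvd h3 hGne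
    rw [hFTm.natDegree_map, hG.natDegree_map] at h4
    have h5 : F_T.natDegree = G.natDegree + H.natDegree := by
      rw [← hGH, hG.natDegree_mul hH]
    omega
  rw [Polynomial.Monic.irreducible_iff_natDegree hFTm]
  refine ⟨?_, ?_⟩
  · intro h1
    rw [h1, natDegree_one] at hdegF
    omega
  · intro G H hG hH hGH
    have hmem : ψ G * ψ H ∈ nilradical (T ⊗[P] B) := by
      rw [← map_mul, hGH, hψF]
      exact zero_mem _
    rcases hnil.mem_or_mem hmem with h | h
    · right
      exact aux G H hG hH hGH (mem_nilradical.mp h)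
    · left
      exact aux H G hH hG (by rw [mul_comm, hGH]) (mem_nilradical.mp h)

end

end Groth.Agent.H7.GeomIrr
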