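import Mathlib

/-!
# Transfer of freeness and of the "power" property to a localization
-/

set_option autoImplicit false
set_option linter.style.haveILetI false
universe u v
open Polynomial TensorProduct

namespace Groth.Agent.H7.GeomIrr

section
variable {P : Type u} {B : Type v} [CommRing P] [CommRing B] [Algebra P B] (g₁ : P)
  (P₁ : Type*) (B₁ : Type*) [CommRing P₁] [CommRing B₁] [Algebra P P₁]
  [IsLocalization.Away g₁ P₁]
  [Algebra B B₁] [Algebra P B₁] [Algebra P₁ B₁] [IsScalarTower P B B₁] [IsScalarTower P P₁ B₁]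
  [IsLocalization (Algebra.algebraMapSubmonoid B (Submonoid.powers g₁)) B₁]

include g₁ in
/-- `B₁` is the base change of `B` to `P₁`, so freeness transfers -/
theorem free_of_free_tensor (h : Module.Free P₁ (P₁ ⊗[P] B)) : Module.Free P₁ B₁ := by
  haveI : IsLocalizedModule (Submonoid.powers g₁) (IsScalarTower.toAlgHom P B B₁).toLinearMap :=
    isLocalizedModule_iff_isLocalization.mpr inferInstance
  have hbc : IsBaseChange P₁ (IsScalarTower.toAlgHom P B B₁).toLinearMap :=
    IsLocalizedModule.isBaseChange (Submonoid.powers g₁) P₁ _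
  exact Module.Free.of_equiv hbc.equiv

/-- `q`-th powers in `B₁` are polynomials in `θ` -/
theorem exists_pow_eq_aeval (g g' : P) (hg₁ : g₁ = g * g') (θ : B) (q : ℕ)
    (h : ∀ b : B, ∃ (m : ℕ) (G : P[X]), algebraMap P B (g' ^ m) * b ^ q = aeval θ G)
    (b₁ : B₁) : ∃ G₁ : P₁[X], b₁ ^ q = aeval (algebraMap B B₁ θ) G₁ := by
  obtain ⟨⟨b, s⟩, hbs⟩ :=
    IsLocalization.surj (Algebra.algebraMapSubmonoid B (Submonoid.powers g₁)) b₁
  obtain ⟨_, ⟨k, rfl⟩, hs⟩ := s.2
  simp only at hbs hs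
  obtain ⟨m, G, hG⟩ := h b
  have hu₁ : IsUnit (algebraMap P P₁ g₁) := IsLocalization.Away.algebraMap_isUnit g₁
  have hu' : IsUnit (algebraMap P P₁ g') := by
    rw [hg₁, map_mul] at hu₁
    exact isUnit_of_mul_isUnit_right hu₁
  have hc : IsUnit (algebraMap P P₁ (g' ^ m * g₁ ^ (k * q))) := by
    rw [map_mul, map_pow, map_pow]
    exact (hu'.pow m).mul (hu₁.pow _)
  obtain ⟨c, hc'⟩ := hc
  refine ⟨C (↑c⁻¹ : P₁) * G.map (algebraMap P P₁), ?_⟩
  have e1 : algebraMap P B₁ (g₁ ^ k) * b₁ = algebraMap B B₁ b := by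
    rw [← hbs, ← hs, mul_comm, ← IsScalarTower.algebraMap_apply]
  have e2 : algebraMap P B₁ (g' ^ m * g₁ ^ (k * q)) * b₁ ^ q =
      aeval (algebraMap B B₁ θ) (G.map (algebraMap P P₁)) := by
    have : aeval (algebraMap B B₁ θ) (G.map (algebraMap P P₁)) = algebraMap B B₁ (aeval θ G) := by
      rw [Polynomial.aeval_map_algebraMap]
      exact Polynomial.aeval_algHom_apply (IsScalarTower.toAlgHom P B B₁) θ G
    rw [this, ← hG]
    calc algebraMap P B₁ (g' ^ m * g₁ ^ (k * q)) * b₁ ^ q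
        = algebraMap P B₁ (g' ^ m) * (algebraMap P B₁ (g₁ ^ k) * b₁) ^ q := by
          rw [mul_pow, ← map_pow, ← pow_mul, map_mul, mul_assoc]
      _ = algebraMap B B₁ (algebraMap P B (g' ^ m) * b ^ q) := by
          rw [e1, map_mul, map_pow (algebraMap B B₁) b, ← IsScalarTower.algebraMap_apply]
  rw [map_mul, aeval_C, ← e2, IsScalarTower.algebraMap_apply P P₁ B₁, ← hc', ← mul_assoc,
    ← map_mul, Units.inv_mul, map_one, one_mul]

end

end Groth.Agent.H7.GeomIrr
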