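import Mathlib
import Groth.Agent.H7.GeomIrr.NilPrime

/-!
# The nilradical of a base change `T' ⊗[P₁] B₁` is prime

`B₁` a free nonzero `P₁`-algebra with an element `θ` killed by `F ∈ P₁[X]` such that every `q`-th
power in `B₁` is a polynomial in `θ`; `T'` a `P₁`-algebra which is a domain over whose fraction
field `F` is irreducible. Then the nilradical of `T' ⊗[P₁] B₁` is prime.
-/

set_option autoImplicit false
set_option linter.style.haveILetI false
universe u v w
open Polynomial TensorProduct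

namespace Groth.Agent.H7.GeomIrr

theorem nilradical_tensor_isPrime
    {P₁ : Type u} {B₁ : Type v} {T' : Type w} [CommRing P₁] [CommRing B₁] [Algebra P₁ B₁]
    [Module.Free P₁ B₁] [Nontrivial B₁]
    [CommRing T'] [IsDomain T'] [Algebra P₁ T'] (𝕂 : Type*) [Field 𝕂] [Algebra T' 𝕂]
    [IsFractionRing T' 𝕂]
    (θ : B₁) (F : P₁[X]) (hF : aeval θ F = 0)
    (hirr : Irreducible ((F.map (algebraMap P₁ T')).map (algebraMap T' 𝕂)))
    (q : ℕ) (hq : 0 < q) (hadd : ∀ x y : T' ⊗[P₁] B₁, (x + y) ^ q = x ^ q + y ^ q)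
    (hpow : ∀ b : B₁, ∃ G : P₁[X], b ^ q = aeval θ G) :
    (nilradical (T' ⊗[P₁] B₁)).IsPrime := by
  classical
  haveI : Nontrivial P₁ := by
    by_contra hP
    rw [not_nontrivial_iff_subsingleton] at hP
    haveI := Module.subsingleton P₁ B₁
    exact not_subsingleton B₁ inferInstance
  haveI : Module.FaithfullyFlat P₁ B₁ := inferInstance
  haveI : Nontrivial (T' ⊗[P₁] B₁) :=
    (Module.FaithfullyFlat.nontrivial_tensorProduct_iff_left P₁ (M := T') (N := B₁)).mpr
      inferInstance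
  haveI : Module.Free T' (T' ⊗[P₁] B₁) := inferInstance
  let ψ : T'[X] →+* (T' ⊗[P₁] B₁) :=
    Polynomial.eval₂RingHom (algebraMap T' (T' ⊗[P₁] B₁)) ((1 : T') ⊗ₜ[P₁] θ)
  have hψC : ∀ t : T', ψ (C t) = t ⊗ₜ[P₁] (1 : B₁) := by
    intro t
    simp [ψ, Algebra.TensorProduct.algebraMap_apply]
  have hψmap : ∀ G : P₁[X], ψ (G.map (algebraMap P₁ T')) = (1 : T') ⊗ₜ[P₁] (aeval θ G) := by
    intro G
    have : ψ (G.map (algebraMap P₁ T')) =
        Polynomial.eval₂ ((algebraMap T' (T' ⊗[P₁] B₁)).comp (algebraMap P₁ T'))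
          ((1 : T') ⊗ₜ[P₁] θ) G := by
      simp [ψ, Polynomial.eval₂_map]
    rw [this]
    have h2 : (algebraMap T' (T' ⊗[P₁] B₁)).comp (algebraMap P₁ T') =
        (Algebra.TensorProduct.includeRight : B₁ →ₐ[P₁] (T' ⊗[P₁] B₁)).toRingHom.comp
          (algebraMap P₁ B₁) := by
      ext x
      simp [Algebra.algebraMap_eq_smul_one]
    rw [h2]
    have h3 : (1 : T') ⊗ₜ[P₁] θ =
        (Algebra.TensorProduct.includeRight : B₁ →ₐ[P₁] (T' ⊗[P₁] B₁)).toRingHom θ := rfl
    rw [h3, ← Polynomial.hom_eval₂]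
    rfl
  apply nilradical_isPrime_of_irreducible 𝕂 ψ (F.map (algebraMap P₁ T')) hirr
  · rw [hψmap, hF, tmul_zero]
  · intro h r hh hr
    rw [hψC] at hr
    have : h • r = 0 := by
      rw [← hr, Algebra.smul_def, Algebra.TensorProduct.algebraMap_apply]
      rfl
    exact (smul_eq_zero_iff_right hh).mp this
  · exact hq
  · intro r
    refine ⟨1, ?_⟩
    suffices h : ∃ G : T'[X], r ^ q = ψ G by
      obtain ⟨G, hG⟩ := h
      exact ⟨G, one_ne_zero, by rw [C_1, map_one, one_mul, hG]⟩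
    induction r using TensorProduct.induction_on with
    | zero => exact ⟨0, by rw [zero_pow hq.ne', map_zero]⟩
    | tmul t b =>
      obtain ⟨G, hG⟩ := hpow b
      refine ⟨C (t ^ q) * G.map (algebraMap P₁ T'), ?_⟩
      rw [map_mul, hψC, hψmap, ← hG, Algebra.TensorProduct.tmul_pow,
        Algebra.TensorProduct.tmul_mul_tmul, mul_one, one_mul]
    | add x y hx hy =>
      obtain ⟨G₁, h₁⟩ := hx
      obtain ⟨G₂, h₂⟩ := hy
      exact ⟨G₁ + G₂, by rw [hadd, h₁, h₂, map_add]⟩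

end Groth.Agent.H7.GeomIrr
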