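import Mathlib

/-!
# `MvPolynomial ι A ⊗[A] Ω` is a polynomial ring over `Ω`
-/

set_option autoImplicit false
set_option linter.style.haveILetI false
universe u v w
open Polynomial TensorProduct

namespace Groth.Agent.H7.GeomIrr

section
variable (A : Type u) [CommRing A] (ι : Type v) (Ω : Type w) [Field Ω] [Algebra A Ω]

/-- `A[t] ⊗[A] Ω ≃ Ω[t]`. -/
noncomputable def tensorEquiv : MvPolynomial ι A ⊗[A] Ω ≃ₐ[A] MvPolynomial ι Ω :=
  (Algebra.TensorProduct.comm A (MvPolynomial ι A) Ω).trans
    ((MvPolynomial.algebraTensorAlgEquiv A Ω).restrictScalars A)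

theorem tensorEquiv_tmul (p : MvPolynomial ι A) (c : Ω) :
    tensorEquiv A ι Ω (p ⊗ₜ c) = c • MvPolynomial.map (algebraMap A Ω) p := by
  simp [tensorEquiv, MvPolynomial.algebraTensorAlgEquiv_tmul]

theorem tensorEquiv_tmul_one (p : MvPolynomial ι A) :
    tensorEquiv A ι Ω (p ⊗ₜ 1) = MvPolynomial.map (algebraMap A Ω) p := by
  rw [tensorEquiv_tmul, one_smul]

instance : IsDomain (MvPolynomial ι A ⊗[A] Ω) :=
  (tensorEquiv A ι Ω).toRingEquiv.toMulEquiv.isDomain (MvPolynomial ι Ω)

instance : IsIntegrallyClosed (MvPolynomial ι A ⊗[A] Ω) :=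
  IsIntegrallyClosed.of_equiv (tensorEquiv A ι Ω).symm.toRingEquiv

theorem tmul_one_ne_zero (g : MvPolynomial ι A) (m : ι →₀ ℕ)
    (h : algebraMap A Ω (g.coeff m) ≠ 0) : (g ⊗ₜ[A] (1 : Ω)) ≠ 0 := by
  intro h0
  have := congrArg (tensorEquiv A ι Ω) h0
  rw [tensorEquiv_tmul_one, map_zero] at this
  have h2 := congrArg (MvPolynomial.coeff m) this
  rw [MvPolynomial.coeff_map, MvPolynomial.coeff_zero] at h2
  exact h h2

/-- naturality of `optionEquivLeft` -/
theorem optionEquivLeft_map {R S : Type*} [CommRing R] [CommRing S] (f : R →+* S)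
    (G : MvPolynomial (Option ι) R) :
    MvPolynomial.optionEquivLeft S ι (MvPolynomial.map f G) =
      (MvPolynomial.optionEquivLeft R ι G).map (MvPolynomial.map f) := by
  induction G using MvPolynomial.induction_on with
  | C a => simp [MvPolynomial.optionEquivLeft_C]
  | add p q hp hq => simp only [map_add, hp, hq, Polynomial.map_add]
  | mul_X p i hp =>
    rw [map_mul, map_mul, map_mul, hp, Polynomial.map_mul, MvPolynomial.map_X]
    cases i with
    | none => simp [MvPolynomial.optionEquivLeft_X_none]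
    | some i => simp [MvPolynomial.optionEquivLeft_X_some]

/-- irreducibility over `A[t] ⊗ Ω` and over `Ω[t]` agree -/
theorem irreducible_map_tensor_iff (F₀ : (MvPolynomial ι A)[X]) :
    Irreducible (F₀.map (algebraMap (MvPolynomial ι A) (MvPolynomial ι A ⊗[A] Ω))) ↔
    Irreducible (MvPolynomial.map (algebraMap A Ω)
      ((MvPolynomial.optionEquivLeft A ι).symm F₀)) := by
  have h2 : Polynomial.mapEquiv (tensorEquiv A ι Ω).toRingEquiv
      (F₀.map (algebraMap (MvPolynomial ι A) (MvPolynomial ι A ⊗[A] Ω))) =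
      F₀.map (MvPolynomial.map (algebraMap A Ω)) := by
    rw [Polynomial.mapEquiv_apply, Polynomial.map_map]
    congr 1
    apply RingHom.ext
    intro p
    change tensorEquiv A ι Ω (algebraMap (MvPolynomial ι A) (MvPolynomial ι A ⊗[A] Ω) p) = _
    rw [Algebra.TensorProduct.algebraMap_apply, Algebra.algebraMap_self, RingHom.id_apply,
      tensorEquiv_tmul_one]
  have h3 : MvPolynomial.optionEquivLeft Ω ι (MvPolynomial.map (algebraMap A Ω)
      ((MvPolynomial.optionEquivLeft A ι).symm F₀)) = F₀.map (MvPolynomial.map (algebraMap A Ω)) := by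
    rw [optionEquivLeft_map, AlgEquiv.apply_symm_apply]
  rw [← MulEquiv.irreducible_iff (Polynomial.mapEquiv (tensorEquiv A ι Ω).toRingEquiv).toMulEquiv,
    ← MulEquiv.irreducible_iff (MvPolynomial.optionEquivLeft Ω ι).toMulEquiv]
  change Irreducible (Polynomial.mapEquiv (tensorEquiv A ι Ω).toRingEquiv _) ↔
    Irreducible (MvPolynomial.optionEquivLeft Ω ι _)
  rw [h2, h3]

/-- Irreducibility over the fraction field of `A[t] ⊗ Ω` from irreducibility of the
multivariate polynomial over `Ω`. -/
theorem irreducible_map_fraction (F₀ : (MvPolynomial ι A)[X]) (hmonic : F₀.Monic)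
    (h : Irreducible (MvPolynomial.map (algebraMap A Ω)
      ((MvPolynomial.optionEquivLeft A ι).symm F₀))) :
    Irreducible ((F₀.map (algebraMap (MvPolynomial ι A) (MvPolynomial ι A ⊗[A] Ω))).map
      (algebraMap (MvPolynomial ι A ⊗[A] Ω) (FractionRing (MvPolynomial ι A ⊗[A] Ω)))) := by
  have hm : (F₀.map (algebraMap (MvPolynomial ι A) (MvPolynomial ι A ⊗[A] Ω))).Monic :=
    hmonic.map _
  rw [← Polynomial.Monic.irreducible_iff_irreducible_map_fraction_map hm]
  exact (irreducible_map_tensor_iff A ι Ω F₀).mpr h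

theorem algebraMap_tensor_injective (h : Function.Injective (algebraMap A Ω)) :
    Function.Injective (algebraMap (MvPolynomial ι A) (MvPolynomial ι A ⊗[A] Ω)) := by
  intro x y hxy
  have := congrArg (tensorEquiv A ι Ω) hxy
  rw [Algebra.TensorProduct.algebraMap_apply, Algebra.TensorProduct.algebraMap_apply,
    Algebra.algebraMap_self, RingHom.id_apply, RingHom.id_apply, tensorEquiv_tmul_one,
    tensorEquiv_tmul_one] at this
  exact MvPolynomial.map_injective _ h this

end

end Groth.Agent.H7.GeomIrr
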