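import Mathlib
import Groth.Agent.H7.GeomIrr.Step7
import Groth.Agent.H7.GeomIrr.TensorPoly

/-!
# The nilradical of `B₁ ⊗[A] Ω` is prime
-/

set_option autoImplicit false
set_option linter.style.haveILetI false
universe u v w
open Polynomial TensorProduct

namespace Groth.Agent.H7.GeomIrr

/-- transport of primality of the nilradical along a ring isomorphism -/
theorem nilradical_isPrime_of_ringEquiv {R S : Type*} [CommSemiring R] [CommSemiring S] (e : R ≃+* S)
    (h : (nilradical R).IsPrime) : (nilradical S).IsPrime := by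
  have : nilradical S = (nilradical R).comap e.symm.toRingHom := by
    ext x
    rw [Ideal.mem_comap, mem_nilradical, mem_nilradical]
    exact (IsNilpotent.map_iff e.symm.injective).symm
  rw [this]
  exact Ideal.comap_isPrime _ _

/-- additivity of `p^e`-th powers in an algebra over a ring of exponential characteristic `p` -/
theorem add_pow_expChar_pow_of_algebra (A : Type*) [CommRing A] {R : Type*} [CommRing R]
    [Algebra A R] (p : ℕ) [hp : ExpChar A p] (e : ℕ) (x y : R) :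
    (x + y) ^ p ^ e = x ^ p ^ e + y ^ p ^ e := by
  cases hp with
  | zero => simp
  | prime hprime =>
    have h0 : (p : R) = 0 := by
      have : (p : A) = 0 := CharP.cast_eq_zero A p
      rw [← map_natCast (algebraMap A R), this, map_zero]
    rw [(Commute.all x y).add_pow_prime_pow_eq hprime, h0]
    simp

section
variable (A : Type u) [CommRing A] (ι : Type v)
  (g₁ : MvPolynomial ι A)
  (P₁ : Type*) (B₁ : Type*) [CommRing P₁] [CommRing B₁] [Algebra (MvPolynomial ι A) P₁]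
  [IsLocalization.Away g₁ P₁] [Algebra A P₁] [IsScalarTower A (MvPolynomial ι A) P₁]
  [Algebra P₁ B₁] [Algebra A B₁] [IsScalarTower A P₁ B₁]
  [Module.Free P₁ B₁] [Nontrivial B₁]

/-- **Step 7.** -/
theorem nilradical_isPrime_of_field (θ₁ : B₁) (F₀ : (MvPolynomial ι A)[X]) (hmonic : F₀.Monic)
    (hθ₁ : aeval θ₁ (F₀.map (algebraMap (MvPolynomial ι A) P₁)) = 0)
    (p e : ℕ) [ExpChar A p] (hp : 0 < p)
    (hpow : ∀ b₁ : B₁, ∃ G₁ : P₁[X], b₁ ^ p ^ e = aeval θ₁ G₁)
    (Ω : Type w) [Field Ω] [Algebra A Ω]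
    (hirrΩ : Irreducible (MvPolynomial.map (algebraMap A Ω)
      ((MvPolynomial.optionEquivLeft A ι).symm F₀)))
    (hg₁Ω : g₁ ⊗ₜ[A] (1 : Ω) ≠ 0) :
    (nilradical (B₁ ⊗[A] Ω)).IsPrime := by
  classical
  letI : Algebra (MvPolynomial ι A ⊗[A] Ω) (P₁ ⊗[A] Ω) :=
    (Algebra.TensorProduct.map (IsScalarTower.toAlgHom A (MvPolynomial ι A) P₁)
      (AlgHom.id A Ω)).toRingHom.toAlgebra
  have halg : ∀ x : MvPolynomial ι A ⊗[A] Ω, algebraMap (MvPolynomial ι A ⊗[A] Ω) (P₁ ⊗[A] Ω) x =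
      Algebra.TensorProduct.map (IsScalarTower.toAlgHom A (MvPolynomial ι A) P₁)
        (AlgHom.id A Ω) x := fun _ => rfl
  haveI : IsScalarTower (MvPolynomial ι A) (MvPolynomial ι A ⊗[A] Ω) (P₁ ⊗[A] Ω) :=
    IsScalarTower.of_algebraMap_eq (fun (x : MvPolynomial ι A) => by
      rw [halg, Algebra.TensorProduct.algebraMap_apply, Algebra.TensorProduct.algebraMap_apply,
        Algebra.TensorProduct.map_tmul]
      simp)
  have H : (algebraMap (MvPolynomial ι A ⊗[A] Ω) (P₁ ⊗[A] Ω)).comp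
      (Algebra.TensorProduct.includeRight : Ω →ₐ[A] MvPolynomial ι A ⊗[A] Ω).toRingHom =
      (Algebra.TensorProduct.includeRight : Ω →ₐ[A] P₁ ⊗[A] Ω).toRingHom := by
    ext x
    simp [halg]
  haveI hloc : IsLocalization (Algebra.algebraMapSubmonoid (MvPolynomial ι A ⊗[A] Ω)
      (Submonoid.powers g₁)) (P₁ ⊗[A] Ω) :=
    IsLocalization.tensorProduct_tensorProduct A Ω (Submonoid.powers g₁) P₁ H
  have hle : Algebra.algebraMapSubmonoid (MvPolynomial ι A ⊗[A] Ω) (Submonoid.powers g₁) ≤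
      nonZeroDivisors (MvPolynomial ι A ⊗[A] Ω) := by
    rintro _ ⟨_, ⟨k, rfl⟩, rfl⟩
    rw [mem_nonZeroDivisors_iff_ne_zero, map_pow]
    apply pow_ne_zero
    rw [Algebra.TensorProduct.algebraMap_apply]
    simpa using hg₁Ω
  haveI : IsDomain (P₁ ⊗[A] Ω) :=
    IsLocalization.isDomain_of_le_nonZeroDivisors (P₁ ⊗[A] Ω) hle
  letI : Algebra (P₁ ⊗[A] Ω) (FractionRing (MvPolynomial ι A ⊗[A] Ω)) :=
    (IsLocalization.lift (M := Algebra.algebraMapSubmonoid (MvPolynomial ι A ⊗[A] Ω)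
      (Submonoid.powers g₁)) (S := P₁ ⊗[A] Ω)
      (g := algebraMap (MvPolynomial ι A ⊗[A] Ω) (FractionRing (MvPolynomial ι A ⊗[A] Ω)))
      (fun y => IsUnit.mk0 _ ((map_ne_zero_iff _ (IsFractionRing.injective
        (MvPolynomial ι A ⊗[A] Ω) (FractionRing (MvPolynomial ι A ⊗[A] Ω)))).mpr
        (nonZeroDivisors.ne_zero (hle y.2))))).toAlgebra
  haveI : IsScalarTower (MvPolynomial ι A ⊗[A] Ω) (P₁ ⊗[A] Ω)
      (FractionRing (MvPolynomial ι A ⊗[A] Ω)) :=
    IsScalarTower.of_algebraMap_eq (fun x => by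
      rw [RingHom.algebraMap_toAlgebra, IsLocalization.lift_eq])
  haveI : IsFractionRing (P₁ ⊗[A] Ω) (FractionRing (MvPolynomial ι A ⊗[A] Ω)) :=
    IsFractionRing.isFractionRing_of_isDomain_of_isLocalization
      (Algebra.algebraMapSubmonoid (MvPolynomial ι A ⊗[A] Ω) (Submonoid.powers g₁))
      (P₁ ⊗[A] Ω) (FractionRing (MvPolynomial ι A ⊗[A] Ω))
  have hirr : Irreducible (((F₀.map (algebraMap (MvPolynomial ι A) P₁)).map
      (algebraMap P₁ (P₁ ⊗[A] Ω))).map
      (algebraMap (P₁ ⊗[A] Ω) (FractionRing (MvPolynomial ι A ⊗[A] Ω)))) := by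
    have h1 := irreducible_map_fraction A ι Ω F₀ hmonic hirrΩ
    have h2 : ((F₀.map (algebraMap (MvPolynomial ι A) P₁)).map
        (algebraMap P₁ (P₁ ⊗[A] Ω))).map
        (algebraMap (P₁ ⊗[A] Ω) (FractionRing (MvPolynomial ι A ⊗[A] Ω))) =
        (F₀.map (algebraMap (MvPolynomial ι A) (MvPolynomial ι A ⊗[A] Ω))).map
          (algebraMap (MvPolynomial ι A ⊗[A] Ω) (FractionRing (MvPolynomial ι A ⊗[A] Ω))) := by
      rw [Polynomial.map_map, Polynomial.map_map, Polynomial.map_map]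
      congr 1
      rw [RingHom.comp_assoc, ← IsScalarTower.algebraMap_eq (MvPolynomial ι A) P₁ (P₁ ⊗[A] Ω),
        IsScalarTower.algebraMap_eq (MvPolynomial ι A) (MvPolynomial ι A ⊗[A] Ω) (P₁ ⊗[A] Ω),
        ← RingHom.comp_assoc, ← IsScalarTower.algebraMap_eq (MvPolynomial ι A ⊗[A] Ω)
          (P₁ ⊗[A] Ω) (FractionRing (MvPolynomial ι A ⊗[A] Ω))]
    rw [h2]
    exact h1
  have hprime : (nilradical ((P₁ ⊗[A] Ω) ⊗[P₁] B₁)).IsPrime :=
    nilradical_tensor_isPrime (FractionRing (MvPolynomial ι A ⊗[A] Ω)) θ₁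
      (F₀.map (algebraMap (MvPolynomial ι A) P₁)) hθ₁ hirr (p ^ e)
      (pow_pos hp e) (fun x y => add_pow_expChar_pow_of_algebra A p e x y) hpow
  exact nilradical_isPrime_of_ringEquiv
    ((Algebra.TensorProduct.comm P₁ (P₁ ⊗[A] Ω) B₁).trans
      (Algebra.TensorProduct.cancelBaseChange A P₁ P₁ B₁ Ω)).toRingEquiv hprime

end

end Groth.Agent.H7.GeomIrr
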