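import Mathlib

/-!
# The parameter ring of factorizations of a multivariate polynomial

For `F : MvPolynomial σ A` and `a b : ℕ` we build a finitely presented `A`-algebra `FactRing F a b`
whose points with values in an `A`-algebra `Ω` are the pairs `(G, H)` of polynomials over `Ω` of
total degrees `≤ a`, `≤ b` with `G * H = F`.
-/

set_option autoImplicit false
set_option linter.style.haveILetI false
universe u v w
open MvPolynomial

namespace Groth.Agent.H7.GeomIrr

/-- exponents of degree `≤ a` -/
abbrev Exps (σ : Type v) (a : ℕ) := {α : σ →₀ ℕ // (α.sum fun _ e => e) ≤ a}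

instance (σ : Type v) [Finite σ] (a : ℕ) : Finite (Exps σ a) := by
  have h := Finsupp.finite_of_degree_le (σ := σ) a
  have : {α : σ →₀ ℕ | (α.sum fun _ e => e) ≤ a} = {f : σ →₀ ℕ | Finsupp.degree f ≤ a} := by
    ext α
    simp [Finsupp.degree, Finsupp.sum]
  rw [← this] at h
  exact h.to_subtype

noncomputable instance (σ : Type v) [Finite σ] (a : ℕ) : Fintype (Exps σ a) := Fintype.ofFinite _

section
variable (A : Type u) [CommRing A] (σ : Type v) [Finite σ] (a b : ℕ)

/-- the polynomial ring of the coefficients of `G` and `H` -/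
abbrev ParamRing := MvPolynomial (Exps σ a ⊕ Exps σ b) A

/-- the universal `G` -/
noncomputable def univG : MvPolynomial σ (ParamRing A σ a b) :=
  ∑ α : Exps σ a, monomial α.1 (X (Sum.inl α))

/-- the universal `H` -/
noncomputable def univH : MvPolynomial σ (ParamRing A σ a b) :=
  ∑ β : Exps σ b, monomial β.1 (X (Sum.inr β))

variable {A σ}

/-- the ideal of the equations `G * H = F` -/
noncomputable def factIdeal (F : MvPolynomial σ A) : Ideal (ParamRing A σ a b) :=
  Ideal.span (Set.range fun γ : σ →₀ ℕ =>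
    coeff γ (univG A σ a b * univH A σ a b - map (algebraMap A (ParamRing A σ a b)) F))

/-- the ring of factorizations -/
abbrev FactRing (F : MvPolynomial σ A) := ParamRing A σ a b ⧸ factIdeal a b F

instance (F : MvPolynomial σ A) [IsNoetherianRing A] :
    Algebra.FinitePresentation A (FactRing a b F) :=
  Algebra.FinitePresentation.quotient
    ((isNoetherianRing_iff_ideal_fg (ParamRing A σ a b)).mp inferInstance _)

variable {a b}
variable {Ω : Type w} [CommRing Ω] [Algebra A Ω]

theorem map_univG (ρ : ParamRing A σ a b →ₐ[A] Ω) :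
    map (ρ : ParamRing A σ a b →+* Ω) (univG A σ a b) =
      ∑ α : Exps σ a, monomial α.1 (ρ (X (Sum.inl α))) := by
  simp [univG, map_sum, map_monomial]

theorem map_univH (ρ : ParamRing A σ a b →ₐ[A] Ω) :
    map (ρ : ParamRing A σ a b →+* Ω) (univH A σ a b) =
      ∑ β : Exps σ b, monomial β.1 (ρ (X (Sum.inr β))) := by
  simp [univH, map_sum, map_monomial]

theorem totalDegree_sum_monomial_le (c : Exps σ a → Ω) :
    (∑ α : Exps σ a, monomial α.1 (c α)).totalDegree ≤ a := by
  refine totalDegree_finsetSum_le fun α _ => ?_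
  exact (totalDegree_monomial_le _ _).trans α.2

theorem sum_monomial_coeff_eq (G : MvPolynomial σ Ω) (hG : G.totalDegree ≤ a) :
    ∑ α : Exps σ a, monomial α.1 (coeff α.1 G) = G := by
  classical
  ext γ
  rw [coeff_sum]
  by_cases hγ : (γ.sum fun _ e => e) ≤ a
  · rw [Fintype.sum_eq_single (⟨γ, hγ⟩ : Exps σ a)]
    · simp
    · intro α hα
      rw [coeff_monomial, if_neg]
      intro h
      exact hα (Subtype.ext h)
  · have h0 : coeff γ G = 0 := by
      apply coeff_eq_zero_of_totalDegree_lt
      have : a < γ.sum fun _ e => e := not_le.mp hγ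
      exact lt_of_le_of_lt hG this
    rw [h0]
    apply Finset.sum_eq_zero
    intro α _
    rw [coeff_monomial, if_neg]
    intro h
    exact hγ (h ▸ α.2)

/-- a point of the factorization ring gives a factorization -/
theorem exists_factor_of_algHom (F : MvPolynomial σ A) (ρ : FactRing a b F →ₐ[A] Ω) :
    ∃ G H : MvPolynomial σ Ω, G.totalDegree ≤ a ∧ H.totalDegree ≤ b ∧
      G * H = map (algebraMap A Ω) F := by
  let ρ' : ParamRing A σ a b →ₐ[A] Ω := ρ.comp (Ideal.Quotient.mkₐ A (factIdeal a b F))
  refine ⟨map (ρ' : ParamRing A σ a b →+* Ω) (univG A σ a b),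
    map (ρ' : ParamRing A σ a b →+* Ω) (univH A σ a b), ?_, ?_, ?_⟩
  · rw [map_univG]; exact totalDegree_sum_monomial_le _
  · rw [map_univH]; exact totalDegree_sum_monomial_le _
  · rw [← map_mul]
    have hF : map (algebraMap A Ω) F = map (ρ' : ParamRing A σ a b →+* Ω)
        (map (algebraMap A (ParamRing A σ a b)) F) := by
      rw [map_map, ρ'.comp_algebraMap]
    rw [hF, ← sub_eq_zero, ← map_sub]
    ext γ
    rw [coeff_map, coeff_zero]
    have hmem : coeff γ (univG A σ a b * univH A σ a b -
        map (algebraMap A (ParamRing A σ a b)) F) ∈ factIdeal a b F :=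
      Ideal.subset_span ⟨γ, rfl⟩
    change ρ (Ideal.Quotient.mk _ _) = 0
    rw [Ideal.Quotient.eq_zero_iff_mem.mpr hmem, map_zero]

/-- a factorization gives a point of the factorization ring -/
theorem exists_algHom_of_factor (F : MvPolynomial σ A) (G H : MvPolynomial σ Ω)
    (hG : G.totalDegree ≤ a) (hH : H.totalDegree ≤ b) (hGH : G * H = map (algebraMap A Ω) F) :
    Nonempty (FactRing a b F →ₐ[A] Ω) := by
  let ρ' : ParamRing A σ a b →ₐ[A] Ω :=
    aeval (Sum.elim (fun α : Exps σ a => coeff α.1 G) (fun β : Exps σ b => coeff β.1 H))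
  have h1 : map (ρ' : ParamRing A σ a b →+* Ω) (univG A σ a b) = G := by
    rw [map_univG]
    simp only [ρ', aeval_X, Sum.elim_inl]
    exact sum_monomial_coeff_eq G hG
  have h2 : map (ρ' : ParamRing A σ a b →+* Ω) (univH A σ a b) = H := by
    rw [map_univH]
    simp only [ρ', aeval_X, Sum.elim_inr]
    exact sum_monomial_coeff_eq H hH
  have hF : map (algebraMap A Ω) F = map (ρ' : ParamRing A σ a b →+* Ω)
      (map (algebraMap A (ParamRing A σ a b)) F) := by
    rw [map_map, ρ'.comp_algebraMap]
  have hker : ∀ x ∈ factIdeal a b F, ρ' x = 0 := by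
    intro x hx
    refine Submodule.span_induction ?_ ?_ ?_ ?_ hx
    · rintro _ ⟨γ, rfl⟩
      change (ρ' : ParamRing A σ a b →+* Ω) _ = 0
      rw [← coeff_map, map_sub, map_mul, h1, h2, ← hF, hGH, sub_self, coeff_zero]
    · exact map_zero _
    · intro x y _ _ hx hy
      rw [map_add, hx, hy, add_zero]
    · intro c x _ hx
      rw [smul_eq_mul, map_mul, hx, mul_zero]
  exact ⟨Ideal.Quotient.liftₐ (factIdeal a b F) ρ' hker⟩

end

end Groth.Agent.H7.GeomIrr
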