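import Mathlib

/-!
# Algebraic points of the generic fibre of a finite type algebra over a domain
-/

set_option autoImplicit false
set_option linter.style.haveILetI false
universe u v
open TensorProduct

namespace Groth.Agent.H7.GeomIrr

/-- A finite type algebra `Q` over a domain `A` having a prime lying over `(0)` admits an
`A`-algebra map to the algebraic closure of the fraction field of `A`. -/
theorem exists_algHom_algebraicClosure (A : Type u) [CommRing A] [IsDomain A]
    (Q : Type v) [CommRing Q] [Algebra A Q] [Algebra.FiniteType A Q]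
    (h : ∃ 𝔔 : Ideal Q, 𝔔.IsPrime ∧ 𝔔.comap (algebraMap A Q) = ⊥) :
    Nonempty (Q →ₐ[A] AlgebraicClosure (FractionRing A)) := by
  obtain ⟨𝔔, h𝔔, hcomap⟩ := h
  let K := FractionRing A
  let D₁ := Q ⧸ 𝔔
  let L₁ := FractionRing D₁
  have hinj : Function.Injective (algebraMap A L₁) := by
    rw [IsScalarTower.algebraMap_eq A D₁ L₁, IsScalarTower.algebraMap_eq A Q D₁]
    refine (IsFractionRing.injective D₁ L₁).comp ?_
    intro a b hab
    have hab' : algebraMap Q D₁ (algebraMap A Q a - algebraMap A Q b) = 0 := by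
      rw [map_sub, sub_eq_zero]; exact hab
    rw [Ideal.Quotient.algebraMap_eq, Ideal.Quotient.eq_zero_iff_mem, ← map_sub] at hab'
    have : a - b ∈ 𝔔.comap (algebraMap A Q) := hab'
    rw [hcomap] at this
    exact sub_eq_zero.mp this
  letI algKL : Algebra K L₁ := (IsFractionRing.lift (K := K) hinj).toAlgebra
  haveI : IsScalarTower A K L₁ := IsScalarTower.of_algebraMap_eq fun a => by
    change algebraMap A L₁ a = IsFractionRing.lift (K := K) hinj (algebraMap A K a)
    rw [IsFractionRing.lift_algebraMap]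
  let R₁ := K ⊗[A] Q
  let φ : R₁ →ₐ[A] L₁ := Algebra.TensorProduct.productMap (IsScalarTower.toAlgHom A K L₁)
    (IsScalarTower.toAlgHom A Q L₁)
  haveI : Nontrivial R₁ := φ.toRingHom.domain_nontrivial
  obtain ⟨𝔪, h𝔪⟩ := Ideal.exists_maximal R₁
  letI := Ideal.Quotient.field 𝔪
  haveI : Algebra.FiniteType K R₁ := inferInstance
  haveI : Algebra.FiniteType K (R₁ ⧸ 𝔪) :=
    Algebra.FiniteType.of_surjective (Ideal.Quotient.mkₐ K 𝔪) Ideal.Quotient.mk_surjective
  haveI : Module.Finite K (R₁ ⧸ 𝔪) := finite_of_finite_type_of_isJacobsonRing K (R₁ ⧸ 𝔪)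
  haveI : Algebra.IsAlgebraic K (R₁ ⧸ 𝔪) := Algebra.IsAlgebraic.of_finite K (R₁ ⧸ 𝔪)
  let ψ : (R₁ ⧸ 𝔪) →ₐ[K] AlgebraicClosure K := IsAlgClosed.lift
  exact ⟨((ψ.restrictScalars A).comp ((Ideal.Quotient.mkₐ K 𝔪).restrictScalars A)).comp
    (Algebra.TensorProduct.includeRight (R := A) (A := K) (B := Q))⟩

end Groth.Agent.H7.GeomIrr
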