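import Mathlib
import Groth.Agent.H7.GeomIrr.Pt
import Groth.Agent.H7.GeomIrr.Param
import Groth.Agent.H37.OrbitLC2

/-!
# Irreducibility of a multivariate polynomial spreads out from the geometric generic point
-/

set_option autoImplicit false
set_option linter.style.haveILetI false
universe u v
open MvPolynomial Topology

namespace Groth.Agent.H7.GeomIrr

theorem totalDegree_map_le' {R S : Type*} [CommSemiring R] [CommSemiring S] {σ : Type*}
    (f : R →+* S) (p : MvPolynomial σ R) : (map f p).totalDegree ≤ p.totalDegree := by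
  classical
  unfold totalDegree
  exact Finset.sup_mono (support_map_subset f p)

/-- over a field, a polynomial of total degree zero which is nonzero is a unit -/
theorem isUnit_of_totalDegree_eq_zero {k : Type*} [Field k] {σ : Type*} {G : MvPolynomial σ k}
    (h0 : G ≠ 0) (h : G.totalDegree = 0) : IsUnit G := by
  rw [totalDegree_eq_zero_iff_eq_C] at h
  rw [h]
  have : coeff 0 G ≠ 0 := by
    intro h'
    rw [h', map_zero] at h
    exact h0 h
  exact (IsUnit.mk0 _ this).map C

theorem totalDegree_ne_zero_of_not_isUnit {k : Type*} [Field k] {σ : Type*} {G : MvPolynomial σ k}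
    (h0 : G ≠ 0) (h : ¬ IsUnit G) : 1 ≤ G.totalDegree := by
  by_contra hlt
  exact h (isUnit_of_totalDegree_eq_zero h0 (by omega))

theorem totalDegree_eq_zero_of_isUnit {k : Type*} [Field k] {σ : Type*} {G : MvPolynomial σ k}
    (h : IsUnit G) : G.totalDegree = 0 :=
  (isUnit_iff_totalDegree_of_isReduced.mp h).2

/-- **Spreading out irreducibility.** -/
theorem exists_ne_zero_irreducible_map
    (A : Type u) [CommRing A] [IsDomain A] [IsNoetherianRing A] {σ : Type v} [Finite σ]
    (F : MvPolynomial σ A)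
    (hF : Irreducible (map (algebraMap A (AlgebraicClosure (FractionRing A))) F)) :
    ∃ f : A, f ≠ 0 ∧ ∀ (Ω : Type u) [Field Ω] [Algebra A Ω], algebraMap A Ω f ≠ 0 →
      Irreducible (map (algebraMap A Ω) F) := by
  classical
  set Kbar := AlgebraicClosure (FractionRing A) with hKbar
  have hinj : Function.Injective (algebraMap A Kbar) := by
    rw [IsScalarTower.algebraMap_eq A (FractionRing A) Kbar]
    exact (algebraMap (FractionRing A) Kbar).injective.comp (IsFractionRing.injective A _)
  set D := F.totalDegree with hD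
  have hF0 : F ≠ 0 := by
    intro h
    rw [h, map_zero] at hF
    exact not_irreducible_zero hF
  -- a monomial of top degree
  obtain ⟨α₀, hα₀, hα₀D⟩ : ∃ α₀ ∈ F.support, (α₀.sum fun _ e => e) = D := by
    have hne : F.support.Nonempty := support_nonempty.mpr hF0
    obtain ⟨α₀, h1, h2⟩ := Finset.exists_mem_eq_sup F.support hne (fun s => s.sum fun _ e => e)
    exact ⟨α₀, h1, h2.symm⟩
  set c := coeff α₀ F with hc
  have hc0 : c ≠ 0 := mem_support_iff.mp hα₀
  -- the degree of the base changes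
  have hdeg : ∀ (Ω : Type u) [Field Ω] [Algebra A Ω], algebraMap A Ω c ≠ 0 →
      (map (algebraMap A Ω) F).totalDegree = D := by
    intro Ω _ _ hcΩ
    refine le_antisymm (totalDegree_map_le' _ _) ?_
    change D ≤ _
    rw [← hα₀D]
    apply le_totalDegree
    rw [mem_support_iff, coeff_map]
    exact hcΩ
  have hdegK : (map (algebraMap A Kbar) F).totalDegree = D := by
    refine le_antisymm (totalDegree_map_le' _ _) ?_
    change D ≤ _
    rw [← hα₀D]
    apply le_totalDegree
    rw [mem_support_iff, coeff_map]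
    exact fun h => hc0 (hinj (h.trans (map_zero _).symm))
  have hD1 : 1 ≤ D := by
    rw [← hdegK]
    exact totalDegree_ne_zero_of_not_isUnit hF.ne_zero hF.not_isUnit
  -- the reducibility loci
  let E : ℕ → Set (PrimeSpectrum A) := fun a =>
    Set.range (PrimeSpectrum.comap (algebraMap A (FactRing a (D - a) F)))
  have hEc : ∀ a, IsConstructible (E a) := fun a =>
    PrimeSpectrum.isConstructible_range_comap (RingHom.finitePresentation_algebraMap.mpr inferInstance)
  have hEbot : ∀ a ∈ Finset.Ico 1 D, (⊥ : PrimeSpectrum A) ∉ E a := by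
    intro a ha hmem
    rw [Finset.mem_Ico] at ha
    obtain ⟨𝔔, h𝔔⟩ := hmem
    have hcomap : 𝔔.asIdeal.comap (algebraMap A (FactRing a (D - a) F)) = ⊥ :=
      congrArg PrimeSpectrum.asIdeal h𝔔
    obtain ⟨ρ⟩ := exists_algHom_algebraicClosure A (FactRing a (D - a) F) ⟨𝔔.asIdeal, 𝔔.2, hcomap⟩
    obtain ⟨G, H, hG, hH, hGH⟩ := exists_factor_of_algHom F ρ
    have hG0 : G ≠ 0 := fun h => hF.ne_zero (by rw [← hGH, h, zero_mul])
    have hH0 : H ≠ 0 := fun h => hF.ne_zero (by rw [← hGH, h, mul_zero])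
    have hsum : G.totalDegree + H.totalDegree = D := by
      rw [← totalDegree_mul_of_isDomain hG0 hH0, hGH, hdegK]
    rcases hF.isUnit_or_isUnit hGH.symm with hu | hu
    · have := totalDegree_eq_zero_of_isUnit hu
      omega
    · have := totalDegree_eq_zero_of_isUnit hu
      omega
  let Etot : Set (PrimeSpectrum A) := ⋃ a ∈ Finset.Ico 1 D, E a
  have hEtot : IsConstructible Etot :=
    IsConstructible.biUnion (Finset.finite_toSet _) fun a _ => hEc a
  have hbot : (⊥ : PrimeSpectrum A) ∈ Etotᶜ := by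
    intro h
    obtain ⟨a, ha, hmem⟩ := Set.mem_iUnion₂.mp h
    exact hEbot a ha hmem
  have hcl : closure Etotᶜ = Set.univ := by
    apply Set.eq_univ_of_univ_subset
    have h1 : closure ({⊥} : Set (PrimeSpectrum A)) = Set.univ := by
      rw [PrimeSpectrum.closure_singleton]
      ext x
      simp
    rw [← h1]
    exact closure_mono (Set.singleton_subset_iff.mpr hbot)
  obtain ⟨U, hUo, hUne, hUsub⟩ := Groth.Agent.H37.exists_open_inter_closure_subset'
    (isConstructible_compl.mpr hEtot).isLocallyConstructible ⟨⊥, hbot⟩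
  rw [hcl, Set.inter_univ] at hUne hUsub
  obtain ⟨x, hx⟩ := hUne
  obtain ⟨_, ⟨f₀, rfl⟩, hxf, hfU⟩ :=
    PrimeSpectrum.isTopologicalBasis_basic_opens.exists_subset_of_mem_open hx hUo
  have hf₀ : f₀ ≠ 0 := by
    rintro rfl
    simp at hxf
  refine ⟨c * f₀, mul_ne_zero hc0 hf₀, ?_⟩
  intro Ω _ _ hfΩ
  rw [map_mul] at hfΩ
  have hcΩ : algebraMap A Ω c ≠ 0 := left_ne_zero_of_mul hfΩ
  have hf₀Ω : algebraMap A Ω f₀ ≠ 0 := right_ne_zero_of_mul hfΩ
  have hdΩ := hdeg Ω hcΩ
  have hFΩ0 : map (algebraMap A Ω) F ≠ 0 := by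
    intro h
    rw [h, totalDegree_zero] at hdΩ
    omega
  let 𝔭 : PrimeSpectrum A := ⟨RingHom.ker (algebraMap A Ω), RingHom.ker_isPrime _⟩
  have h𝔭 : 𝔭 ∈ Etotᶜ := by
    apply hUsub
    apply hfU
    change f₀ ∉ RingHom.ker (algebraMap A Ω)
    rwa [RingHom.mem_ker]
  rw [irreducible_iff]
  refine ⟨fun hu => ?_, ?_⟩
  · have := totalDegree_eq_zero_of_isUnit hu
    omega
  · intro G H hGH
    by_contra hcon
    rw [not_or] at hcon
    have hG0 : G ≠ 0 := fun h => hFΩ0 (by rw [hGH, h, zero_mul])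
    have hH0 : H ≠ 0 := fun h => hFΩ0 (by rw [hGH, h, mul_zero])
    have hG1 := totalDegree_ne_zero_of_not_isUnit hG0 hcon.1
    have hH1 := totalDegree_ne_zero_of_not_isUnit hH0 hcon.2
    have hsum : G.totalDegree + H.totalDegree = D := by
      rw [← totalDegree_mul_of_isDomain hG0 hH0, ← hGH, hdΩ]
    have hb : H.totalDegree ≤ D - G.totalDegree := by omega
    obtain ⟨ρ⟩ := exists_algHom_of_factor (a := G.totalDegree) (b := D - G.totalDegree) F G H
      le_rfl hb hGH.symm
    apply h𝔭
    refine Set.mem_iUnion₂.mpr ⟨G.totalDegree, Finset.mem_Ico.mpr ⟨hG1, by omega⟩, ?_⟩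
    refine ⟨⟨RingHom.ker (ρ : FactRing G.totalDegree (D - G.totalDegree) F →+* Ω),
      RingHom.ker_isPrime _⟩, ?_⟩
    apply PrimeSpectrum.ext
    change Ideal.comap _ (RingHom.ker (ρ : FactRing G.totalDegree (D - G.totalDegree) F →+* Ω)) =
      RingHom.ker (algebraMap A Ω)
    ext x
    rw [Ideal.mem_comap, RingHom.mem_ker, RingHom.mem_ker]
    change ρ (algebraMap A _ x) = 0 ↔ _
    rw [ρ.commutes]

end Groth.Agent.H7.GeomIrr
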