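import Mathlib
import Groth.Agent.S0389
import Groth.Agent.H7.GeomIrr.Poly2
import Groth.Agent.H7.GeomIrr.Core
import Groth.Agent.H7.GeomIrr.Field2
import Groth.Agent.H7.GeomIrr.Irr5
import Groth.Agent.H7.GeomIrr.Loc
import Groth.Agent.H7.GeomIrr.PerField

/-!
# EGA IV 9.7.7, algebraic core (polynomial-ring form), over an arbitrary domain
-/

set_option autoImplicit false
set_option linter.style.haveILetI false
universe u
open Polynomial TensorProduct

namespace Groth.Agent.H7.GeomIrr

section
variable (A : Type u) [CommRing A] [IsDomain A] (ι : Type u) [Finite ι]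
  (B : Type u) [CommRing B] [IsDomain B] [Algebra A B] [Algebra (MvPolynomial ι A) B]
  [IsScalarTower A (MvPolynomial ι A) B] [FaithfulSMul (MvPolynomial ι A) B]
  [Algebra.IsAlgebraic (MvPolynomial ι A) B] [Algebra.FiniteType A B]

/-- freeness after inverting `g` passes to every algebra in which `g` is invertible -/
theorem free_tensor_of_isUnit {P B : Type*} [CommRing P] [CommRing B] [Algebra P B] (g : P)
    (P' : Type*) [CommRing P'] [Algebra P P'] (hu : IsUnit (algebraMap P P' g))
    (h : Module.Free (Localization.Away g) (Localization.Away g ⊗[P] B)) :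
    Module.Free P' (P' ⊗[P] B) := by
  letI : Algebra (Localization.Away g) P' := (IsLocalization.Away.lift g hu).toAlgebra
  haveI : IsScalarTower P (Localization.Away g) P' := IsScalarTower.of_algebraMap_eq (fun x => by
    rw [RingHom.algebraMap_toAlgebra, IsLocalization.Away.lift_eq])
  haveI : Module.Free P' (P' ⊗[Localization.Away g] (Localization.Away g ⊗[P] B)) :=
    inferInstance
  exact Module.Free.of_equiv
    (Algebra.TensorProduct.cancelBaseChange P (Localization.Away g) P' P' B).toLinearEquiv

theorem core_poly'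
    (hnil : (nilradical (B ⊗[A] AlgebraicClosure (FractionRing A))).IsPrime) :
    ∃ (g₁ : MvPolynomial ι A) (f : A), g₁ ≠ 0 ∧ f ≠ 0 ∧
      ∀ (Ω : Type u) [Field Ω] [Algebra A Ω], algebraMap A Ω f ≠ 0 →
        (nilradical (Localization (Algebra.algebraMapSubmonoid B (Submonoid.powers g₁))
          ⊗[A] Ω)).IsPrime := by
  classical
  let p := ringExpChar A
  haveI : ExpChar A p := ringExpChar.expChar A
  have hCinj : Function.Injective (algebraMap A (MvPolynomial ι A)) := by
    rw [MvPolynomial.algebraMap_eq]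
    exact MvPolynomial.C_injective ι A
  haveI : ExpChar (MvPolynomial ι A) p := expChar_of_injective_algebraMap hCinj p
  haveI : Algebra.FiniteType (MvPolynomial ι A) B :=
    Algebra.FiniteType.of_restrictScalars_finiteType A (MvPolynomial ι A) B
  obtain ⟨θ, F₀, e, g', hmonic, hθ, hirr, hsep, hg', hpow⟩ :=
    exists_field_data (MvPolynomial ι A) B p
  -- Step 5'
  have hKinj : Function.Injective (algebraMap A (AlgebraicClosure (FractionRing A))) :=
    FaithfulSMul.algebraMap_injective A _
  haveI : FaithfulSMul (MvPolynomial ι A)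
      (MvPolynomial ι A ⊗[A] AlgebraicClosure (FractionRing A)) :=
    (faithfulSMul_iff_algebraMap_injective _ _).mpr
      (algebraMap_tensor_injective A ι _ hKinj)
  have hnil' : (nilradical ((MvPolynomial ι A ⊗[A] AlgebraicClosure (FractionRing A))
      ⊗[MvPolynomial ι A] B)).IsPrime :=
    nilradical_isPrime_of_ringEquiv
      ((Algebra.TensorProduct.cancelBaseChange A (MvPolynomial ι A) (MvPolynomial ι A) B
        (AlgebraicClosure (FractionRing A))).symm.trans
        (Algebra.TensorProduct.comm (MvPolynomial ι A) B _)).toRingEquiv hnil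
  have h5 : Irreducible (MvPolynomial.map (algebraMap A (AlgebraicClosure (FractionRing A)))
      ((MvPolynomial.optionEquivLeft A ι).symm F₀)) :=
    (irreducible_map_tensor_iff A ι _ F₀).mp
      (irreducible_map_of_nilradical_isPrime θ F₀ hmonic hθ hirr hsep hnil')
  -- Step 6
  obtain ⟨f₁, hf₁, H₁⟩ := exists_ne_zero_irreducible_map' A
    ((MvPolynomial.optionEquivLeft A ι).symm F₀) h5
  -- generic freeness
  obtain ⟨g, hg, Hfree, -, -, -⟩ := Groth.Agent.S0389.result (R := MvPolynomial ι A) (S := B) (M := B)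
  set g₁ := g * g' with hg₁
  have hg₁0 : g₁ ≠ 0 := mul_ne_zero hg hg'
  obtain ⟨m, hm⟩ := MvPolynomial.ne_zero_iff.mp hg₁0
  refine ⟨g₁, f₁ * g₁.coeff m, hg₁0, mul_ne_zero hf₁ hm, ?_⟩
  intro Ω _ _ hΩ
  rw [map_mul] at hΩ
  have hΩ1 : algebraMap A Ω f₁ ≠ 0 := left_ne_zero_of_mul hΩ
  have hΩ2 : algebraMap A Ω (g₁.coeff m) ≠ 0 := right_ne_zero_of_mul hΩ
  -- localized data
  haveI : IsScalarTower A (Localization.Away g₁)
      (Localization (Algebra.algebraMapSubmonoid B (Submonoid.powers g₁))) :=
    IsScalarTower.to₁₃₄ A (MvPolynomial ι A) _ _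
  have hunit : IsUnit (algebraMap (MvPolynomial ι A) (Localization.Away g₁) g) := by
    have := IsLocalization.Away.algebraMap_isUnit (S := Localization.Away g₁) g₁
    rw [hg₁, map_mul] at this
    exact isUnit_of_mul_isUnit_left this
  haveI : Module.Free (Localization.Away g₁)
      (Localization (Algebra.algebraMapSubmonoid B (Submonoid.powers g₁))) :=
    free_of_free_tensor g₁ (Localization.Away g₁) _
      (free_tensor_of_isUnit g (Localization.Away g₁) hunit Hfree)
  have hPB : Function.Injective (algebraMap (MvPolynomial ι A) B) :=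
    FaithfulSMul.algebraMap_injective _ _
  have hle : Algebra.algebraMapSubmonoid B (Submonoid.powers g₁) ≤ nonZeroDivisors B := by
    rintro _ ⟨_, ⟨k, rfl⟩, rfl⟩
    rw [mem_nonZeroDivisors_iff_ne_zero, map_pow]
    exact pow_ne_zero _ ((map_ne_zero_iff _ hPB).mpr hg₁0)
  haveI : IsDomain (Localization (Algebra.algebraMapSubmonoid B (Submonoid.powers g₁))) :=
    IsLocalization.isDomain_of_le_nonZeroDivisors _ hle
  refine nilradical_isPrime_of_field A ι g₁ (Localization.Away g₁)
    (Localization (Algebra.algebraMapSubmonoid B (Submonoid.powers g₁)))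
    (algebraMap B _ θ) F₀ hmonic ?_ p e (expChar_pos A p) ?_ Ω (H₁ Ω hΩ1)
    (tmul_one_ne_zero A ι Ω g₁ m hΩ2)
  · rw [Polynomial.aeval_map_algebraMap]
    have := Polynomial.aeval_algHom_apply (IsScalarTower.toAlgHom (MvPolynomial ι A) B
      (Localization (Algebra.algebraMapSubmonoid B (Submonoid.powers g₁)))) θ F₀
    rw [IsScalarTower.coe_toAlgHom'] at this
    rw [this, hθ, map_zero]
  · exact exists_pow_eq_aeval g₁ (Localization.Away g₁) _ g g' hg₁ θ (p ^ e) hpow

end

end Groth.Agent.H7.GeomIrr
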