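import Mathlib
import Groth.Agent.H7.GeomIrr.Core2

/-!
# EGA IV 9.7.7, algebraic core, non-noetherian version

`A` a domain, `B` a domain, finite type over `A` with `A → B` injective, such that
the nilradical of `B ⊗[A] K̄` is prime (`K̄` an algebraic closure of the fraction field of `A`).
Then there are nonzero `u ∈ B` and `f ∈ A` such that for every field `Ω` over `A` in which `f`
is nonzero, the nilradical of `B_u ⊗[A] Ω` is prime.
-/

set_option autoImplicit false
set_option linter.style.haveILetI false
universe u
open Polynomial TensorProduct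

namespace Groth.Agent.H7.GeomIrr

theorem core' (A B : Type u) [CommRing A] [IsDomain A] [CommRing B]
    [IsDomain B] [Algebra A B] [FaithfulSMul A B] [Algebra.FiniteType A B]
    (hnil : (nilradical (B ⊗[A] AlgebraicClosure (FractionRing A))).IsPrime) :
    ∃ (u : B) (f : A), u ≠ 0 ∧ f ≠ 0 ∧
      ∀ (Ω : Type u) [Field Ω] [Algebra A Ω], algebraMap A Ω f ≠ 0 →
        (nilradical (Localization.Away u ⊗[A] Ω)).IsPrime := by
  classical
  obtain ⟨s, hs⟩ := (inferInstance : Algebra.FiniteType A B).out
  haveI : Algebra.IsAlgebraic (Algebra.adjoin A (s : Set B)) B := by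
    refine ⟨fun b => ?_⟩
    have hb : b ∈ Algebra.adjoin A (s : Set B) := by rw [hs]; trivial
    exact isAlgebraic_algebraMap (⟨b, hb⟩ : Algebra.adjoin A (s : Set B))
  obtain ⟨t, hts, htb⟩ := exists_isTranscendenceBasis_subset (R := A) (s : Set B)
  haveI : Finite t := (s.finite_toSet.subset hts).to_subtype
  have hx : AlgebraicIndependent A ((↑) : t → B) := htb.1
  letI : Algebra (MvPolynomial t A) B := (MvPolynomial.aeval ((↑) : t → B)).toRingHom.toAlgebra
  have halg : ∀ q : MvPolynomial t A, algebraMap (MvPolynomial t A) B q =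
      MvPolynomial.aeval ((↑) : t → B) q := fun _ => rfl
  haveI : IsScalarTower A (MvPolynomial t A) B := IsScalarTower.of_algebraMap_eq (fun a => by
    rw [halg, MvPolynomial.algebraMap_eq, MvPolynomial.aeval_C])
  haveI : FaithfulSMul (MvPolynomial t A) B :=
    (faithfulSMul_iff_algebraMap_injective _ _).mpr hx
  haveI : Algebra.IsAlgebraic (Algebra.adjoin A (Set.range ((↑) : t → B))) B := htb.isAlgebraic
  haveI : Algebra.IsAlgebraic (MvPolynomial t A) B :=
    Algebra.IsAlgebraic.of_ringHom_of_comp_eq (S := Algebra.adjoin A (Set.range ((↑) : t → B)))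
      (B := B) (hx.aevalEquiv : MvPolynomial t A →+* _) (RingHom.id B)
      hx.aevalEquiv.surjective Function.injective_id (by
        ext q
        · simp [halg]
        · simp [halg])
  obtain ⟨g₁, f, hg₁, hf, H⟩ := core_poly' A t B hnil
  refine ⟨algebraMap (MvPolynomial t A) B g₁, f, ?_, hf, ?_⟩
  · exact (map_ne_zero_iff _ (FaithfulSMul.algebraMap_injective _ _)).mpr hg₁
  · intro Ω _ _ hΩ
    have h1 := H Ω hΩ
    have hM : Algebra.algebraMapSubmonoid B (Submonoid.powers g₁) =
        Submonoid.powers (algebraMap (MvPolynomial t A) B g₁) := Submonoid.map_powers _ _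
    have key : ∀ M : Submonoid B, M = Submonoid.powers (algebraMap (MvPolynomial t A) B g₁) →
        (nilradical (Localization M ⊗[A] Ω)).IsPrime →
        (nilradical (Localization.Away (algebraMap (MvPolynomial t A) B g₁) ⊗[A] Ω)).IsPrime := by
      rintro M rfl h
      exact h
    exact key _ hM h1

end Groth.Agent.H7.GeomIrr
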