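import Mathlib
import Groth.Agent.H20.GenFibreAlg
import Groth.Agent.H7.GeomIrr.CoreMain2

/-!
# EGA IV 9.7.7, algebraic form for an arbitrary finite type algebra

`A` a ring with prime nilradical, `B` a finite type `A`-algebra.  If the nilradical of `Ω ⊗[A] B`
is prime for every field `Ω` over `A` "lying over the generic point" (kernel = nilradical), then
there is a non-nilpotent `a ∈ A` such that the nilradical of `k ⊗[A] B` is prime for every field `k`
over `A` in which `a` is nonzero.
-/

set_option autoImplicit false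
set_option linter.style.haveILetI false
universe u
open Polynomial TensorProduct

namespace Groth.Agent.H7.GeomIrr

open Groth.Agent.H20.GenFibre

/-- a surjection with nil kernel preserves and reflects primality of the nilradical -/
theorem nilradical_isPrime_iff_of_surjective {R S : Type*} [CommRing R] [CommRing S] (φ : R →+* S)
    (hφ : Function.Surjective φ) (hker : ∀ x, φ x = 0 → IsNilpotent x) :
    (nilradical R).IsPrime ↔ (nilradical S).IsPrime := by
  have hcomap : nilradical R = (nilradical S).comap φ := by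
    ext x
    rw [Ideal.mem_comap, mem_nilradical, mem_nilradical]
    constructor
    · exact fun h => h.map φ
    · rintro ⟨n, hn⟩
      rw [← map_pow] at hn
      obtain ⟨m, hm⟩ := hker _ hn
      exact ⟨n * m, by rw [pow_mul, hm]⟩
  constructor
  · intro h
    have hk : RingHom.ker φ ≤ nilradical R := fun x hx => mem_nilradical.mpr (hker x hx)
    have := Ideal.map_isPrime_of_surjective hφ hk
    rwa [hcomap, Ideal.map_comap_of_surjective φ hφ] at this
  · intro h
    rw [hcomap]
    exact Ideal.comap_isPrime _ _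

/-- primality of the nilradical passes from a localization at a nil-regular element -/
theorem nilradical_isPrime_of_nilRegular {R S : Type*} [CommRing R] [CommRing S] [Algebra R S]
    (g : R) [IsLocalization.Away g S] (hg : NilRegular g) (h : (nilradical S).IsPrime) :
    (nilradical R).IsPrime := by
  have hpow : ∀ (m : ℕ) (x : R), IsNilpotent (g ^ m * x) → IsNilpotent x := by
    intro m
    induction m with
    | zero => intro x hx; simpa using hx
    | succ m ih =>
      intro x hx
      apply ih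
      apply hg
      rwa [← mul_assoc, ← pow_succ']
  have hcomap : nilradical R = (nilradical S).comap (algebraMap R S) := by
    ext x
    rw [Ideal.mem_comap, mem_nilradical, mem_nilradical]
    constructor
    · exact fun h => h.map _
    · rintro ⟨n, hn⟩
      rw [← map_pow, IsLocalization.map_eq_zero_iff (Submonoid.powers g) S] at hn
      obtain ⟨⟨_, ⟨m, rfl⟩⟩, hm⟩ := hn
      have : IsNilpotent (x ^ n) := hpow m _ ⟨1, by rw [pow_one]; exact hm⟩
      obtain ⟨r, hr⟩ := this
      exact ⟨n * r, by rw [pow_mul, hr]⟩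
  rw [hcomap]
  exact Ideal.comap_isPrime _ _

section Domain
variable (A B : Type u) [CommRing A] [IsDomain A] [CommRing B] [Algebra A B]

omit [IsDomain A] in
/-- the base change of a quotient by an ideal whose elements become nilpotent -/
theorem nilradical_isPrime_tensor_quotient_iff (𝔭 : Ideal B) (Ω : Type*) [CommRing Ω] [Algebra A Ω]
    (h : ∀ x ∈ 𝔭, IsNilpotent ((1 : Ω) ⊗ₜ[A] x)) :
    (nilradical (Ω ⊗[A] B)).IsPrime ↔ (nilradical (Ω ⊗[A] (B ⧸ 𝔭))).IsPrime := by
  have hsurj : Function.Surjective (Ideal.Quotient.mkₐ A 𝔭) := Ideal.Quotient.mkₐ_surjective A 𝔭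
  apply nilradical_isPrime_iff_of_surjective
    (Algebra.TensorProduct.map (AlgHom.id A Ω) (Ideal.Quotient.mkₐ A 𝔭)).toRingHom
  · exact Algebra.TensorProduct.map_surjective _ _ Function.surjective_id hsurj
  · intro x hx
    have hx' : x ∈ RingHom.ker (Algebra.TensorProduct.map (AlgHom.id A Ω)
        (Ideal.Quotient.mkₐ A 𝔭)) := hx
    have hker : RingHom.ker (Ideal.Quotient.mkₐ A 𝔭) = 𝔭 := by
      ext y
      rw [RingHom.mem_ker]
      exact Ideal.Quotient.eq_zero_iff_mem
    rw [Algebra.TensorProduct.lTensor_ker _ hsurj, hker] at hx'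
    have hle : 𝔭.map (Algebra.TensorProduct.includeRight : B →ₐ[A] Ω ⊗[A] B) ≤
        nilradical (Ω ⊗[A] B) := by
      rw [Ideal.map_le_iff_le_comap]
      intro y hy
      rw [Ideal.mem_comap, mem_nilradical]
      exact h y hy
    exact mem_nilradical.mp (hle hx')

variable [Algebra.FiniteType A B]

theorem genForm_domain
    (hgi : ∀ (Ω : Type u) [Field Ω] [Algebra A Ω], Function.Injective (algebraMap A Ω) →
      (nilradical (Ω ⊗[A] B)).IsPrime) :
    ∃ a : A, a ≠ 0 ∧ ∀ (k : Type u) [Field k] [Algebra A k], algebraMap A k a ≠ 0 →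
      (nilradical (k ⊗[A] B)).IsPrime := by
  classical
  have hK : Function.Injective (algebraMap A (FractionRing A)) :=
    IsFractionRing.injective A (FractionRing A)
  have hKbar : Function.Injective (algebraMap A (AlgebraicClosure (FractionRing A))) :=
    FaithfulSMul.algebraMap_injective A _
  have hn1 : (nilradical (FractionRing A ⊗[A] B)).IsPrime := hgi (FractionRing A) hK
  haveI : Nontrivial (FractionRing A ⊗[A] B) := by
    by_contra hnt
    rw [not_nontrivial_iff_subsingleton] at hnt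
    exact hn1.ne_top (Ideal.eq_top_iff_one _ |>.mpr (by
      rw [mem_nilradical, Subsingleton.elim (1 : FractionRing A ⊗[A] B) 0]
      exact IsNilpotent.zero))
  let 𝔭 : Ideal B := (nilradical (FractionRing A ⊗[A] B)).comap
    (Algebra.TensorProduct.includeRight : B →ₐ[A] FractionRing A ⊗[A] B).toRingHom
  haveI : 𝔭.IsPrime := Ideal.comap_isPrime _ _
  have h𝔭 : ∀ x ∈ 𝔭, IsNilpotent ((1 : FractionRing A) ⊗ₜ[A] x) :=
    fun x hx => mem_nilradical.mp hx
  haveI : Algebra.FiniteType A (B ⧸ 𝔭) :=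
    Algebra.FiniteType.of_surjective (Ideal.Quotient.mkₐ A 𝔭) (Ideal.Quotient.mkₐ_surjective A 𝔭)
  -- `A → B/𝔭` is injective
  haveI : FaithfulSMul A (B ⧸ 𝔭) := by
    rw [faithfulSMul_iff_algebraMap_injective, injective_iff_map_eq_zero]
    intro a ha
    by_contra ha0
    have h1 : algebraMap A B a ∈ 𝔭 := by
      rw [← Ideal.Quotient.eq_zero_iff_mem]
      exact ha
    have h2 := h𝔭 _ h1
    have h3 : (1 : FractionRing A) ⊗ₜ[A] (algebraMap A B a) =
        algebraMap (FractionRing A) (FractionRing A ⊗[A] B) (algebraMap A (FractionRing A) a) := by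
      rw [Algebra.TensorProduct.algebraMap_apply, Algebra.algebraMap_self, RingHom.id_apply,
        Algebra.algebraMap_eq_smul_one, Algebra.algebraMap_eq_smul_one, TensorProduct.smul_tmul]
    rw [h3] at h2
    have hunit : IsUnit (algebraMap (FractionRing A) (FractionRing A ⊗[A] B)
        (algebraMap A (FractionRing A) a)) :=
      (IsUnit.mk0 _ ((map_ne_zero_iff _ hK).mpr ha0)).map _
    obtain ⟨n, hn⟩ := h2
    have := hunit.pow n
    rw [hn] at this
    exact not_isUnit_zero this
  haveI : IsDomain (B ⧸ 𝔭) := Ideal.Quotient.isDomain 𝔭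
  have hinj'' : Function.Injective (algebraMap A (B ⧸ 𝔭)) :=
    FaithfulSMul.algebraMap_injective A (B ⧸ 𝔭)
  -- hypothesis for `B/𝔭` over `Kbar`
  have hKbarnil : ∀ x ∈ 𝔭, IsNilpotent ((1 : AlgebraicClosure (FractionRing A)) ⊗ₜ[A] x) := by
    intro x hx
    have := (h𝔭 x hx).map (Algebra.TensorProduct.map
      (IsScalarTower.toAlgHom A (FractionRing A) (AlgebraicClosure (FractionRing A)))
      (AlgHom.id A B))
    simpa using this
  have h2 : (nilradical (AlgebraicClosure (FractionRing A) ⊗[A] (B ⧸ 𝔭))).IsPrime :=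
    (nilradical_isPrime_tensor_quotient_iff A B 𝔭 _ hKbarnil).mp (hgi _ hKbar)
  have h3 : (nilradical ((B ⧸ 𝔭) ⊗[A] AlgebraicClosure (FractionRing A))).IsPrime :=
    nilradical_isPrime_of_ringEquiv (Algebra.TensorProduct.comm A _ _).toRingEquiv h2
  obtain ⟨u, f, hu, hf, H⟩ := core' A (B ⧸ 𝔭) h3
  -- nil-regularity of `u` on the generic fibre
  have hreg : NilRegular ((1 : FractionRing A) ⊗ₜ[A] u) := by
    intro x hx
    obtain ⟨s, b, hs, hsb⟩ := exists_smul_eq_one_tmul (FractionRing A) x
    have h4 : IsNilpotent ((1 : FractionRing A) ⊗ₜ[A] (u * b)) := by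
      have : (1 : FractionRing A) ⊗ₜ[A] (u * b) = s • ((1 ⊗ₜ u) * x) := by
        rw [← mul_smul_comm, hsb, Algebra.TensorProduct.tmul_mul_tmul, one_mul]
      rw [this]
      exact hx.smul s
    obtain ⟨n, hn⟩ := h4
    rw [Algebra.TensorProduct.tmul_pow, one_pow] at hn
    obtain ⟨r, hr, hrb⟩ := exists_smul_eq_zero_of_one_tmul_eq_zero (FractionRing A) hn
    have hb : b = 0 := by
      rw [Algebra.smul_def] at hrb
      rcases mul_eq_zero.mp hrb with h | h
      · exact absurd ((map_eq_zero_iff _ hinj'').mp h) hr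
      · have h5 : u * b = 0 := pow_eq_zero_iff (M₀ := B ⧸ 𝔭) (n := n) (by
          rintro rfl
          rw [pow_zero] at h
          exact one_ne_zero h) |>.mp h
        rcases mul_eq_zero.mp h5 with h6 | h6
        · exact absurd h6 hu
        · exact h6
    rw [hb, tmul_zero] at hsb
    have hsK : algebraMap A (FractionRing A) s ≠ 0 := (map_ne_zero_iff _ hK).mpr hs
    have hx0 : x = 0 := by
      have h7 : (algebraMap A (FractionRing A) s) • x = 0 := by rw [algebraMap_smul]; exact hsb
      rcases smul_eq_zero.mp h7 with h8 | h8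
      · exact absurd h8 hsK
      · exact h8
    rw [hx0]
    exact IsNilpotent.zero
  obtain ⟨a₁, ha₁, Hreg⟩ := exists_nilRegular (FractionRing A) u hreg
  obtain ⟨a₂, ha₂, Htors⟩ := exists_forall_pow_smul_eq_zero (A := A) (B := B)
  refine ⟨f * a₁ * a₂, mul_ne_zero (mul_ne_zero hf ha₁) ha₂, ?_⟩
  intro k _ _ hk
  rw [map_mul, map_mul] at hk
  have hkf : algebraMap A k f ≠ 0 := left_ne_zero_of_mul (left_ne_zero_of_mul hk)
  have hk1 : algebraMap A k a₁ ≠ 0 := right_ne_zero_of_mul (left_ne_zero_of_mul hk)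
  have hk2 : algebraMap A k a₂ ≠ 0 := right_ne_zero_of_mul hk
  -- elements of `𝔭` are nilpotent in `k ⊗ B`
  have hknil : ∀ x ∈ 𝔭, IsNilpotent ((1 : k) ⊗ₜ[A] x) := by
    intro x hx
    obtain ⟨N, hN⟩ := h𝔭 x hx
    rw [Algebra.TensorProduct.tmul_pow, one_pow] at hN
    obtain ⟨r, hr, hrx⟩ := exists_smul_eq_zero_of_one_tmul_eq_zero (FractionRing A) hN
    obtain ⟨n, hn⟩ := Htors (x ^ N) ⟨r, hr, hrx⟩
    refine ⟨N, ?_⟩
    rw [Algebra.TensorProduct.tmul_pow, one_pow]
    have h9 : (algebraMap A k a₂) ^ n • ((1 : k) ⊗ₜ[A] (x ^ N)) = 0 := by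
      rw [← map_pow, algebraMap_smul, ← TensorProduct.tmul_smul, hn, tmul_zero]
    rcases smul_eq_zero.mp h9 with h10 | h10
    · exact absurd h10 (pow_ne_zero n hk2)
    · exact h10
  rw [nilradical_isPrime_tensor_quotient_iff A B 𝔭 k hknil]
  -- the localization `(B/𝔭)_u ⊗ k` of `(B/𝔭) ⊗ k`
  letI : Algebra ((B ⧸ 𝔭) ⊗[A] k) (Localization.Away u ⊗[A] k) :=
    (Algebra.TensorProduct.map (IsScalarTower.toAlgHom A (B ⧸ 𝔭) (Localization.Away u))
      (AlgHom.id A k)).toRingHom.toAlgebra
  have halg : ∀ x : (B ⧸ 𝔭) ⊗[A] k, algebraMap ((B ⧸ 𝔭) ⊗[A] k) (Localization.Away u ⊗[A] k) x =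
      Algebra.TensorProduct.map (IsScalarTower.toAlgHom A (B ⧸ 𝔭) (Localization.Away u))
        (AlgHom.id A k) x := fun _ => rfl
  haveI : IsScalarTower (B ⧸ 𝔭) ((B ⧸ 𝔭) ⊗[A] k) (Localization.Away u ⊗[A] k) :=
    IsScalarTower.of_algebraMap_eq (fun (x : B ⧸ 𝔭) => by
      rw [halg, Algebra.TensorProduct.algebraMap_apply, Algebra.TensorProduct.algebraMap_apply,
        Algebra.TensorProduct.map_tmul]
      simp)
  have Hc : (algebraMap ((B ⧸ 𝔭) ⊗[A] k) (Localization.Away u ⊗[A] k)).comp
      (Algebra.TensorProduct.includeRight : k →ₐ[A] (B ⧸ 𝔭) ⊗[A] k).toRingHom =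
      (Algebra.TensorProduct.includeRight : k →ₐ[A] Localization.Away u ⊗[A] k).toRingHom := by
    ext x
    simp [halg]
  have hloc : IsLocalization (Algebra.algebraMapSubmonoid ((B ⧸ 𝔭) ⊗[A] k) (Submonoid.powers u))
      (Localization.Away u ⊗[A] k) :=
    IsLocalization.tensorProduct_tensorProduct A k (Submonoid.powers u) (Localization.Away u) Hc
  have hM : Algebra.algebraMapSubmonoid ((B ⧸ 𝔭) ⊗[A] k) (Submonoid.powers u) =
      Submonoid.powers (u ⊗ₜ[A] (1 : k)) := by
    rw [Algebra.algebraMapSubmonoid, Submonoid.map_powers, Algebra.TensorProduct.algebraMap_apply]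
    rfl
  haveI : IsLocalization.Away (u ⊗ₜ[A] (1 : k)) (Localization.Away u ⊗[A] k) := by
    rw [hM] at hloc
    exact hloc
  have hreg' : NilRegular (u ⊗ₜ[A] (1 : k)) := by
    have := (Hreg k hk1).of_ringEquiv (Algebra.TensorProduct.comm A k (B ⧸ 𝔭)).toRingEquiv
    simpa using this
  have h11 : (nilradical ((B ⧸ 𝔭) ⊗[A] k)).IsPrime :=
    nilradical_isPrime_of_nilRegular (u ⊗ₜ[A] (1 : k)) hreg' (H k hkf)
  exact nilradical_isPrime_of_ringEquiv (Algebra.TensorProduct.comm A (B ⧸ 𝔭) k).toRingEquiv h11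

end Domain

section PrimeNil
variable (A B : Type u) [CommRing A] [CommRing B] [Algebra A B] [Algebra.FiniteType A B]

/-- **EGA IV 9.7.7, general algebraic form.** -/
theorem genForm (hnil : (nilradical A).IsPrime)
    (hgi : ∀ (Ω : Type u) [Field Ω] [Algebra A Ω], (∀ a, algebraMap A Ω a = 0 → IsNilpotent a) →
      (nilradical (Ω ⊗[A] B)).IsPrime) :
    ∃ a : A, ¬ IsNilpotent a ∧ ∀ (k : Type u) [Field k] [Algebra A k], algebraMap A k a ≠ 0 →
      (nilradical (k ⊗[A] B)).IsPrime := by
  classical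
  haveI : IsDomain (A ⧸ nilradical A) := Ideal.Quotient.isDomain _
  obtain ⟨a', ha', H⟩ := genForm_domain (A ⧸ nilradical A) ((A ⧸ nilradical A) ⊗[A] B) (by
    intro Ω _ _ hΩ
    letI : Algebra A Ω := Algebra.compHom Ω (algebraMap A (A ⧸ nilradical A))
    haveI : IsScalarTower A (A ⧸ nilradical A) Ω := IsScalarTower.of_algebraMap_eq (fun _ => rfl)
    have h1 : (nilradical (Ω ⊗[A] B)).IsPrime := by
      apply hgi Ω
      intro a ha
      rw [IsScalarTower.algebraMap_apply A (A ⧸ nilradical A) Ω] at ha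
      have := (map_eq_zero_iff _ hΩ).mp ha
      rw [Ideal.Quotient.algebraMap_eq, Ideal.Quotient.eq_zero_iff_mem] at this
      exact mem_nilradical.mp this
    exact nilradical_isPrime_of_ringEquiv
      (Algebra.TensorProduct.cancelBaseChange A (A ⧸ nilradical A) Ω Ω B).symm.toRingEquiv h1)
  obtain ⟨a, rfl⟩ := Ideal.Quotient.mk_surjective a'
  refine ⟨a, fun hn => ha' (Ideal.Quotient.eq_zero_iff_mem.mpr (mem_nilradical.mpr hn)), ?_⟩
  intro k _ _ hk
  letI := algebraQuotNil (A := A) k
  haveI := isScalarTower_quotNil (A := A) k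
  have h2 := H k (by
    rw [← Ideal.Quotient.algebraMap_eq, ← IsScalarTower.algebraMap_apply A (A ⧸ nilradical A) k]
    exact hk)
  exact nilradical_isPrime_of_ringEquiv
    (Algebra.TensorProduct.cancelBaseChange A (A ⧸ nilradical A) k k B).toRingEquiv h2

end PrimeNil

end Groth.Agent.H7.GeomIrr
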