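import Mathlib
import Groth.Agent.H7.GeomIrr.PerField

/-!
# Affine charts of the base change of a morphism along a field-valued point

For a pullback square `P = X ×_Y Spec Ω`, an affine open `V ⊆ Y` containing the image of `Spec Ω`
and an affine open `U ⊆ f⁻¹ V` of `X`: the preimage of `U` in `P` is irreducible iff the nilradical
of `Ω ⊗[Γ(Y, V)] Γ(X, U)` is prime.
-/

set_option autoImplicit false
set_option linter.style.haveILetI false
universe u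
open TensorProduct CategoryTheory CategoryTheory.Limits AlgebraicGeometry TopologicalSpace

namespace Groth.Agent.H7.GeomIrr

/-- irreducibility of an affine open in terms of its ring of sections -/
theorem isIrreducible_iff_of_isAffineOpen {Z : Scheme.{u}} {W : Z.Opens} (hW : IsAffineOpen W) :
    IsIrreducible (W : Set Z) ↔ (nilradical Γ(Z, W)).IsPrime := by
  rw [← PrimeSpectrum.irreducibleSpace_iff_isPrime_nilradical, isIrreducible_iff_irreducibleSpace]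
  exact hW.isoSpec.hom.homeomorph.irreducibleSpace_iff

variable {X Y P : Scheme.{u}} {f : X ⟶ Y} {Ω : Type u} [Field Ω]
  {r : Spec (CommRingCat.of Ω) ⟶ Y} {p : P ⟶ X} {q : P ⟶ Spec (CommRingCat.of Ω)}

/-- **The chart.** -/
theorem isIrreducible_preimage_iff (hpb : IsPullback p q f r)
    {U : X.Opens} {V : Y.Opens} (hU : IsAffineOpen U) (hV : IsAffineOpen V)
    (hUV : U ≤ f ⁻¹ᵁ V) (hrV : (⊤ : (Spec (CommRingCat.of Ω)).Opens) ≤ r ⁻¹ᵁ V) :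
    letI := (f.appLE V U hUV).hom.toAlgebra
    letI := (r.appLE V ⊤ hrV ≫ (Scheme.ΓSpecIso (CommRingCat.of Ω)).hom).hom.toAlgebra
    IsIrreducible ((p ⁻¹ᵁ U : P.Opens) : Set P) ↔
      (nilradical (Ω ⊗[Γ(Y, V)] Γ(X, U))).IsPrime := by
  letI : Algebra Γ(Y, V) Γ(X, U) := (f.appLE V U hUV).hom.toAlgebra
  letI : Algebra Γ(Y, V) Ω :=
    (r.appLE V ⊤ hrV ≫ (Scheme.ΓSpecIso (CommRingCat.of Ω)).hom).hom.toAlgebra
  have hT : IsAffineOpen (⊤ : (Spec (CommRingCat.of Ω)).Opens) := isAffineOpen_top _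
  have hUY : p ⁻¹ᵁ U = p ⁻¹ᵁ U ⊓ q ⁻¹ᵁ ⊤ := by simp
  have haff : IsAffineOpen (p ⁻¹ᵁ U) := by
    have : IsAffine (V : Scheme.{u}) := hV
    have : IsAffine ((⊤ : (Spec (CommRingCat.of Ω)).Opens) : Scheme.{u}) := hT
    have : IsAffine (U : Scheme.{u}) := hU
    exact IsAffine.of_isIso (Scheme.Hom.isPullback_resLE hpb hrV hUV hUY).isoPullback.hom
  have hpo : IsPushout (f.appLE V U hUV) (r.appLE V ⊤ hrV)
      (p.appLE U (p ⁻¹ᵁ U) le_rfl) (q.appLE ⊤ (p ⁻¹ᵁ U) (by simp)) := by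
    have := isIso_pushoutSection_of_isAffineOpen hpb hrV hUV hUY hV hT hU
    exact (isIso_pushoutSection_iff hpb hrV hUV hUY).mp this
  let e₃ := Scheme.ΓSpecIso (CommRingCat.of Ω)
  have hpo' : IsPushout (f.appLE V U hUV) (r.appLE V ⊤ hrV ≫ e₃.hom)
      (p.appLE U (p ⁻¹ᵁ U) le_rfl) (e₃.inv ≫ q.appLE ⊤ (p ⁻¹ᵁ U) (by simp)) := by
    refine IsPushout.of_iso hpo (Iso.refl _) (Iso.refl _) e₃ (Iso.refl _) ?_ ?_ ?_ ?_
    · simp
    · simp
    · simp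
    · simp
  letI : Algebra Γ(X, U) Γ(P, p ⁻¹ᵁ U) := (p.appLE U (p ⁻¹ᵁ U) le_rfl).hom.toAlgebra
  letI : Algebra Ω Γ(P, p ⁻¹ᵁ U) :=
    (e₃.inv ≫ q.appLE ⊤ (p ⁻¹ᵁ U) (by simp)).hom.toAlgebra
  letI : Algebra Γ(Y, V) Γ(P, p ⁻¹ᵁ U) :=
    ((f.appLE V U hUV) ≫ (p.appLE U (p ⁻¹ᵁ U) le_rfl)).hom.toAlgebra
  have t1 : IsScalarTower Γ(Y, V) Γ(X, U) Γ(P, p ⁻¹ᵁ U) :=
    IsScalarTower.of_algebraMap_eq fun r => rfl
  have t2 : IsScalarTower Γ(Y, V) Ω Γ(P, p ⁻¹ᵁ U) :=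
    IsScalarTower.of_algebraMap_eq fun r => congr($(hpo'.w).hom r)
  have hpo'' : Algebra.IsPushout Γ(Y, V) Γ(X, U) Ω Γ(P, p ⁻¹ᵁ U) :=
    CommRingCat.isPushout_iff_isPushout.mp hpo'
  let e₁ := Algebra.IsPushout.equiv Γ(Y, V) Γ(X, U) Ω Γ(P, p ⁻¹ᵁ U)
  let e₂ := Algebra.TensorProduct.comm Γ(Y, V) Ω Γ(X, U)
  rw [isIrreducible_iff_of_isAffineOpen haff]
  constructor
  · intro h
    exact nilradical_isPrime_of_ringEquiv (e₂.toRingEquiv.trans e₁.toRingEquiv).symm h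
  · intro h
    exact nilradical_isPrime_of_ringEquiv (e₂.toRingEquiv.trans e₁.toRingEquiv) h

end Groth.Agent.H7.GeomIrr
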