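import Mathlib
import Groth.Agent.H7.GeomIrr.SchChart
import Groth.Agent.H20.GenFibreClosure

/-!
# Field-valued points, their algebra structures, and geometric irreducibility of fibres
-/

set_option autoImplicit false
set_option linter.style.haveILetI false
universe u
open TensorProduct CategoryTheory CategoryTheory.Limits AlgebraicGeometry TopologicalSpace

namespace Groth.Agent.H7.GeomIrr

/-- a space covered by pairwise intersecting irreducible open subsets is irreducible -/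
theorem irreducibleSpace_of_open_cover {T : Type*} [TopologicalSpace T] {ι : Type*} [Nonempty ι]
    (O : ι → Set T) (hO : ∀ i, IsOpen (O i)) (hirr : ∀ i, IsIrreducible (O i))
    (hcov : ∀ t, ∃ i, t ∈ O i) (hpair : ∀ i j, (O i ∩ O j).Nonempty) : IrreducibleSpace T := by
  obtain ⟨i₀⟩ := ‹Nonempty ι›
  obtain ⟨t₀, -⟩ := (hirr i₀).nonempty
  haveI : Nonempty T := ⟨t₀⟩
  refine { isPreirreducible_univ := ?_, toNonempty := inferInstance }
  rintro A B hA hB ⟨a, -, haA⟩ ⟨b, -, hbB⟩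
  obtain ⟨i, hai⟩ := hcov a
  obtain ⟨j, hbj⟩ := hcov b
  obtain ⟨c, hci, hcA, hcj⟩ := (hirr i).isPreirreducible A (O j) hA (hO j) ⟨a, hai, haA⟩
    (by obtain ⟨x, hx1, hx2⟩ := hpair i j; exact ⟨x, hx1, hx2⟩)
  obtain ⟨d, hdj, ⟨hdA, hdi⟩, hdB⟩ := (hirr j).isPreirreducible (A ∩ O i) B (hA.inter (hO i)) hB
    ⟨c, hcj, hcA, hci⟩ ⟨b, hbj, hbB⟩
  exact ⟨d, Set.mem_univ _, hdA, hdB⟩

/-- two algebra structures with the same structure map give the same tensor product -/
theorem nilradical_tensor_isPrime_congr {A Ω B : Type*} [CommRing A] [CommRing Ω] [CommRing B]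
    [Algebra A B] (i₁ i₂ : Algebra A Ω)
    (h : ∀ a, @algebraMap A Ω _ _ i₁ a = @algebraMap A Ω _ _ i₂ a) :
    (nilradical (@TensorProduct A _ Ω B _ _ i₁.toModule _)).IsPrime ↔
      (nilradical (@TensorProduct A _ Ω B _ _ i₂.toModule _)).IsPrime := by
  have : i₁ = i₂ := Algebra.algebra_ext _ _ h
  subst this
  rfl

section
variable {Y : Scheme.{u}} {V : Y.Opens} (hV : IsAffineOpen V)

/-- the ring map induced on sections by `Spec R → Spec Γ(Y, V) → Y` -/
theorem appLE_specMap_fromSpec {R : CommRingCat.{u}} (φ : Γ(Y, V) ⟶ R)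
    (h : (⊤ : (Spec R).Opens) ≤ (Spec.map φ ≫ hV.fromSpec) ⁻¹ᵁ V) :
    (Spec.map φ ≫ hV.fromSpec).appLE V ⊤ h ≫ (Scheme.ΓSpecIso R).hom = φ := by
  have h1 : (⊤ : (Spec Γ(Y, V)).Opens) ≤ hV.fromSpec ⁻¹ᵁ V := by
    rw [hV.fromSpec_preimage_self]
  have h2 : (⊤ : (Spec R).Opens) ≤ (Spec.map φ) ⁻¹ᵁ ⊤ := le_top
  have key := Scheme.Hom.appLE_comp_appLE (Spec.map φ) hV.fromSpec V ⊤ ⊤ h1 h2
  rw [← key]
  have e1 : hV.fromSpec.appLE V ⊤ h1 = (Scheme.ΓSpecIso Γ(Y, V)).inv := by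
    rw [Scheme.Hom.appLE, hV.fromSpec_app_self, Category.assoc, ← Functor.map_comp]
    convert Category.comp_id _
    exact (Spec Γ(Y, V)).presheaf.map_id _
  have e2 : (Spec.map φ).appLE ⊤ ⊤ h2 = (Spec.map φ).appTop := by
    simp [Scheme.Hom.appLE, Scheme.Hom.appTop]
  rw [e1, e2, Category.assoc, Scheme.ΓSpecIso_naturality, Iso.inv_hom_id_assoc]

end

section
variable {X Y : Scheme.{u}} (f : X ⟶ Y)

/-- base changes along field valued points landing on `y` are irreducible if the fibre is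
geometrically irreducible -/
theorem irreducibleSpace_pullback_of_fiber {Ω : Type u} [Field Ω]
    (r : Spec (CommRingCat.of Ω) ⟶ Y) (y : Y) (hy : ∀ t, r t = y)
    (h : GeometricallyIrreducible (f.fiberToSpecResidueField y)) :
    IrreducibleSpace ↥(pullback f r) := by
  obtain ⟨⟨x, φ⟩, rfl⟩ := (Scheme.SpecToEquivOfField Ω Y).symm.surjective r
  have hx : x = y := by
    have := hy default
    simpa using this
  subst hx
  have h1 : IrreducibleSpace ↥(pullback (f.fiberToSpecResidueField x) (Spec.map φ)) :=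
    pullback_of_geometrically h.1 Ω (Spec.map φ)
  exact ((pullbackLeftPullbackSndIso f (Y.fromSpecResidueField x)
    (Spec.map φ)).hom.homeomorph.irreducibleSpace_iff).mp h1

/-- the converse -/
theorem geometricallyIrreducible_fiber_of_forall (y : Y)
    (H : ∀ (Ω : Type u) [Field Ω] (r : Spec (CommRingCat.of Ω) ⟶ Y), (∀ t, r t = y) →
      IrreducibleSpace ↥(pullback f r)) :
    GeometricallyIrreducible (f.fiberToSpecResidueField y) := by
  constructor
  rw [geometrically_iff_of_isClosedUnderIsomorphisms]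
  intro K _ z
  have h1 := H K (z ≫ Y.fromSpecResidueField y) (fun t => by simp)
  exact ((pullbackLeftPullbackSndIso f (Y.fromSpecResidueField y)
    z).hom.homeomorph.irreducibleSpace_iff).mpr h1

end

section
variable {Y : Scheme.{u}} {Ω : Type u} [Field Ω] (r : Spec (CommRingCat.of Ω) ⟶ Y)

theorem appLE_ne_zero_iff {V : Y.Opens}
    (h : (⊤ : (Spec (CommRingCat.of Ω)).Opens) ≤ r ⁻¹ᵁ V) (a : Γ(Y, V)) :
    (r.appLE V ⊤ h ≫ (Scheme.ΓSpecIso (CommRingCat.of Ω)).hom).hom a ≠ 0 ↔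
      r default ∈ Y.basicOpen a := by
  set s := (r.appLE V ⊤ h).hom a with hs
  have h1 : (Spec (CommRingCat.of Ω)).basicOpen s = ⊤ ⊓ r ⁻¹ᵁ (Y.basicOpen a) :=
    Scheme.basicOpen_appLE _ _ _ _ _
  have h2 : r default ∈ Y.basicOpen a ↔
      (default : Spec (CommRingCat.of Ω)) ∈ (Spec (CommRingCat.of Ω)).basicOpen s := by
    rw [h1]
    constructor
    · intro hh
      exact ⟨trivial, hh⟩
    · intro hh
      exact hh.2
  rw [h2]
  rw [basicOpen_eq_of_affine' s]
  have h6 : ∀ x : PrimeSpectrum Ω, x ∈ PrimeSpectrum.basicOpen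
      ((Scheme.ΓSpecIso (CommRingCat.of Ω)).hom.hom s) ↔
      (Scheme.ΓSpecIso (CommRingCat.of Ω)).hom.hom s ≠ 0 := by
    intro x
    rw [PrimeSpectrum.mem_basicOpen]
    have h5 : x.asIdeal = ⊥ := Ideal.eq_bot_of_prime x.asIdeal
    rw [h5, Ideal.mem_bot]
  exact (h6 _).symm

end

end Groth.Agent.H7.GeomIrr
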