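import Mathlib
import Groth.Agent.H7.GeomIrr.SchPoint
import Groth.Agent.H7.GeomIrr.GenForm
import Groth.Agent.H20.GenFibreImage

/-!
# EGA IV 9.7.7: geometric irreducibility of the generic fibre spreads out

`f : X ⟶ Y` locally of finite type and quasi-compact, `Y` irreducible (no other hypothesis),
generic fibre geometrically irreducible.  Then over a nonempty open of `Y` all base changes of `f`
along field-valued points are irreducible.
-/

set_option autoImplicit false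
set_option linter.style.haveILetI false
universe u
open TensorProduct CategoryTheory CategoryTheory.Limits AlgebraicGeometry TopologicalSpace

namespace Groth.Agent.H7.GeomIrr

open Groth.Agent.H20.GenFibre

/-- finitely many generic conditions on an irreducible space hold simultaneously generically -/
theorem exists_open_forall_finite {Y : Type*} [TopologicalSpace Y] [IrreducibleSpace Y]
    {ι : Type*} {S : Set ι} (hS : S.Finite) (R : ι → Y → Prop)
    (h : ∀ i ∈ S, ∃ V : Set Y, IsOpen V ∧ V.Nonempty ∧ ∀ y ∈ V, R i y) :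
    ∃ V : Set Y, IsOpen V ∧ V.Nonempty ∧ ∀ i ∈ S, ∀ y ∈ V, R i y := by
  induction S, hS using Set.Finite.induction_on with
  | empty => exact ⟨Set.univ, isOpen_univ, Set.univ_nonempty, fun i hi => absurd hi (by simp)⟩
  | @insert i S hi hS ih =>
    obtain ⟨V₁, hV₁o, hV₁n, hV₁⟩ := ih (fun j hj => h j (Set.mem_insert_of_mem _ hj))
    obtain ⟨V₂, hV₂o, hV₂n, hV₂⟩ := h i (Set.mem_insert _ _)
    refine ⟨V₁ ∩ V₂, hV₁o.inter hV₂o, nonempty_preirreducible_inter hV₁o hV₂o hV₁n hV₂n, ?_⟩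
    rintro j hj y ⟨hy1, hy2⟩
    rcases Set.mem_insert_iff.mp hj with rfl | hj
    · exact hV₂ y hy2
    · exact hV₁ j hj y hy1

variable {X Y : Scheme.{u}} (f : X ⟶ Y) [IrreducibleSpace ↥Y] [LocallyOfFiniteType f]

/-- **Dominant affine chart.** -/
theorem exists_basicOpen_isIrreducible_preimage {V₀ : Y.Opens} (hV₀ : IsAffineOpen V₀)
    (hη : genericPoint ↥Y ∈ V₀) {U : X.Opens} (hU : IsAffineOpen U) (hUV : U ≤ f ⁻¹ᵁ V₀)
    (h : GeometricallyIrreducible (f.fiberToSpecResidueField (genericPoint ↥Y)))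
    (hdom : ∃ x ∈ U, f x = genericPoint ↥Y) :
    ∃ a : Γ(Y, V₀), ¬ IsNilpotent a ∧ ∀ y ∈ Y.basicOpen a, ∀ (Ω : Type u) [Field Ω]
      (r : Spec (CommRingCat.of Ω) ⟶ Y), (∀ t, r t = y) →
        IsIrreducible (((pullback.fst f r) ⁻¹ᵁ U : (pullback f r).Opens) : Set ↥(pullback f r)) := by
  have hnil := nilradical_isPrime_of_isAffineOpen hV₀ hη
  letI : Algebra Γ(Y, V₀) Γ(X, U) := (f.appLE V₀ U hUV).hom.toAlgebra
  haveI hft : Algebra.FiniteType Γ(Y, V₀) Γ(X, U) :=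
    HasRingHomProperty.appLE @LocallyOfFiniteType f inferInstance ⟨V₀, hV₀⟩ ⟨U, hU⟩ hUV
  obtain ⟨a, ha, H⟩ := genForm Γ(Y, V₀) Γ(X, U) hnil (by
    intro Ω _ inst hker
    let φ : Γ(Y, V₀) ⟶ CommRingCat.of Ω := CommRingCat.ofHom (algebraMap Γ(Y, V₀) Ω)
    let r : Spec (CommRingCat.of Ω) ⟶ Y := Spec.map φ ≫ hV₀.fromSpec
    have hrη : ∀ t, r t = genericPoint ↥Y := by
      intro t
      change hV₀.fromSpec ((Spec.map φ) t) = _
      apply fromSpec_nilradical_eq_genericPoint hV₀ hη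
      ext b
      change b ∈ Ideal.comap φ.hom t.asIdeal ↔ _
      have ht : t.asIdeal = ⊥ := Ideal.eq_bot_of_prime t.asIdeal
      rw [ht, Ideal.mem_comap, Ideal.mem_bot, mem_nilradical]
      constructor
      · intro hb
        exact hker b hb
      · intro hb
        exact (hb.map (algebraMap Γ(Y, V₀) Ω)).eq_zero
    have hrV : (⊤ : (Spec (CommRingCat.of Ω)).Opens) ≤ r ⁻¹ᵁ V₀ := by
      intro t _
      change r t ∈ V₀
      rw [hrη t]
      exact hη
    haveI : IrreducibleSpace ↥(pullback f r) :=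
      irreducibleSpace_pullback_of_fiber f r _ hrη h
    have hirr : IsIrreducible (((pullback.fst f r) ⁻¹ᵁ U : (pullback f r).Opens) :
        Set ↥(pullback f r)) := by
      obtain ⟨x, hxU, hfx⟩ := hdom
      obtain ⟨z, hz, -⟩ := Scheme.Pullback.exists_preimage_pullback (f := f) (g := r) x default
        (by rw [hfx, hrη])
      refine ⟨⟨z, ?_⟩, (IrreducibleSpace.isIrreducible_univ _).isPreirreducible.open_subset
        ((pullback.fst f r) ⁻¹ᵁ U).isOpen (Set.subset_univ _)⟩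
      change (pullback.fst f r) z ∈ U
      rw [hz]
      exact hxU
    have h1 := (isIrreducible_preimage_iff (IsPullback.of_hasPullback f r) hU hV₀ hUV hrV).mp hirr
    refine (nilradical_tensor_isPrime_congr _ inst ?_).mp h1
    intro b
    rw [RingHom.algebraMap_toAlgebra, appLE_specMap_fromSpec hV₀ φ hrV]
    rfl)
  refine ⟨a, ha, ?_⟩
  intro y hy Ω _ r hr
  have hrV : (⊤ : (Spec (CommRingCat.of Ω)).Opens) ≤ r ⁻¹ᵁ V₀ := by
    intro t _
    change r t ∈ V₀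
    rw [hr t]
    exact Y.basicOpen_le a hy
  rw [isIrreducible_preimage_iff (IsPullback.of_hasPullback f r) hU hV₀ hUV hrV]
  letI : Algebra Γ(Y, V₀) Ω :=
    (r.appLE V₀ ⊤ hrV ≫ (Scheme.ΓSpecIso (CommRingCat.of Ω)).hom).hom.toAlgebra
  apply H Ω
  rw [RingHom.algebraMap_toAlgebra]
  apply (appLE_ne_zero_iff r hrV a).mpr
  rw [hr default]
  exact hy

/-- the chart predicate -/
def ChartProp (U : X.Opens) (y : Y) : Prop :=
  ((∃ x ∈ U, f x = genericPoint ↥Y) → ∀ (Ω : Type u) [Field Ω]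
      (r : Spec (CommRingCat.of Ω) ⟶ Y), (∀ t, r t = y) →
        IsIrreducible (((pullback.fst f r) ⁻¹ᵁ U : (pullback f r).Opens) : Set ↥(pullback f r))) ∧
    ((¬ ∃ x ∈ U, f x = genericPoint ↥Y) → ∀ x ∈ U, f x ≠ y)

theorem exists_basicOpen_chartProp {V₀ : Y.Opens} (hV₀ : IsAffineOpen V₀)
    (hη : genericPoint ↥Y ∈ V₀) {U : X.Opens} (hU : IsAffineOpen U) (hUV : U ≤ f ⁻¹ᵁ V₀)
    (h : GeometricallyIrreducible (f.fiberToSpecResidueField (genericPoint ↥Y))) :
    ∃ a : Γ(Y, V₀), ¬ IsNilpotent a ∧ ∀ y ∈ Y.basicOpen a, ChartProp f U y := by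
  by_cases hdom : ∃ x ∈ U, f x = genericPoint ↥Y
  · obtain ⟨a, ha, H⟩ := exists_basicOpen_isIrreducible_preimage f hV₀ hη hU hUV h hdom
    exact ⟨a, ha, fun y hy => ⟨fun _ => H y hy, fun hn => absurd hdom hn⟩⟩
  · obtain ⟨a, ha, H⟩ := exists_basicOpen_subset_closure_fiber f hV₀ hη hU hUV
    refine ⟨a, ha, fun y hy => ⟨fun hd => absurd hd hdom, fun _ x hxU hfx => ?_⟩⟩
    have hcl := H y hy x hxU hfx
    rw [mem_closure_iff] at hcl
    obtain ⟨x', hx'U, hx'⟩ := hcl U U.isOpen hxU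
    exact hdom ⟨x', hx'U, hx'⟩

/-- **EGA IV 9.7.7**, field-valued point form. -/
theorem exists_open_irreducibleSpace_pullback [QuasiCompact f]
    (h : GeometricallyIrreducible (f.fiberToSpecResidueField (genericPoint ↥Y))) :
    ∃ V : Y.Opens, (V : Set ↥Y).Nonempty ∧ ∀ (Ω : Type u) [Field Ω]
      (r : Spec (CommRingCat.of Ω) ⟶ Y), (∀ t, r t ∈ V) → IrreducibleSpace ↥(pullback f r) := by
  classical
  let η := genericPoint ↥Y
  obtain ⟨_, ⟨V₀, hV₀, rfl⟩, hηV, -⟩ :=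
    Y.isBasis_affineOpens.exists_subset_of_mem_open (Set.mem_univ η) isOpen_univ
  have hV₀ : IsAffineOpen V₀ := hV₀
  have hηV : η ∈ V₀ := hηV
  obtain ⟨s, hsfin, hsV, hcov, V₁, hV₁V₀, hV₁ne, hV₁⟩ := exists_open_forall_cover f hV₀ hηV
    (ChartProp f) (fun U hU hUV => exists_basicOpen_chartProp f hV₀ hηV hU hUV h)
  -- the generic fibre is irreducible
  haveI : IrreducibleSpace ↥(f.fiber η) :=
    GeometricallyIrreducible.irreducibleSpace_of_subsingleton (f := f.fiberToSpecResidueField η)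
  have hfib : IsIrreducible (f ⁻¹' {η}) := by
    rw [← f.range_fiberι η, ← Set.image_univ]
    exact (IrreducibleSpace.isIrreducible_univ _).image _ (f.fiberι η).continuous.continuousOn
  -- pairwise intersections
  obtain ⟨V₂, hV₂o, hV₂ne, hV₂⟩ := exists_open_forall_finite (Y := ↥Y) (hsfin.prod hsfin)
    (fun (p : X.affineOpens × X.affineOpens) y =>
      (∃ x ∈ (p.1 : X.Opens), f x = η) → (∃ x ∈ (p.2 : X.Opens), f x = η) →
        ∃ x, x ∈ (p.1 : X.Opens) ∧ x ∈ (p.2 : X.Opens) ∧ f x = y) (by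
    rintro ⟨U, U'⟩ ⟨hUs, hU's⟩
    by_cases hd : (∃ x ∈ (U : X.Opens), f x = η) ∧ (∃ x ∈ (U' : X.Opens), f x = η)
    · obtain ⟨⟨x, hxU, hfx⟩, ⟨x', hx'U', hfx'⟩⟩ := hd
      obtain ⟨x'', hx''η, hx''U, hx''U'⟩ := hfib.isPreirreducible (U : X.Opens) (U' : X.Opens)
        (U : X.Opens).isOpen (U' : X.Opens).isOpen ⟨x, hfx, hxU⟩ ⟨x', hfx', hx'U'⟩
      obtain ⟨W, hW, hxW, hWsub⟩ := exists_isAffineOpen_mem_and_subset (x := x'')
        (U := (U : X.Opens) ⊓ (U' : X.Opens)) ⟨hx''U, hx''U'⟩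
      have hWV : W ≤ f ⁻¹ᵁ V₀ := fun w hw => hsV U hUs (hWsub hw).1
      obtain ⟨a, ha, hay⟩ := exists_basicOpen_subset_image f hV₀ hηV hW hWV ⟨x'', hxW, hx''η⟩
      refine ⟨Y.basicOpen a, (Y.basicOpen a).isOpen,
        basicOpen_nonempty_of_not_isNilpotent hV₀ a ha, fun y hy _ _ => ?_⟩
      obtain ⟨w, hwW, hfw⟩ := hay y hy
      exact ⟨w, (hWsub hwW).1, (hWsub hwW).2, hfw⟩
    · refine ⟨Set.univ, isOpen_univ, Set.univ_nonempty, fun y _ h1 h2 => absurd ⟨h1, h2⟩ hd⟩)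
  refine ⟨V₁ ⊓ ⟨V₂, hV₂o⟩, nonempty_preirreducible_inter V₁.isOpen hV₂o hV₁ne hV₂ne, ?_⟩
  intro Ω _ r hr
  obtain ⟨hy1, hy2⟩ := hr default
  set y := r default with hy
  have hry : ∀ t, r t = y := fun t => by rw [hy, Subsingleton.elim t default]
  have hyV₀ : y ∈ V₀ := hV₁V₀ hy1
  -- the index type
  let ι := {U : X.affineOpens // U ∈ s ∧ ∃ x ∈ (U : X.Opens), f x = η}
  have hpt : ∀ z : ↥(pullback f r), f ((pullback.fst f r) z) = y := by
    intro z
    have := congrArg (fun g => g z) (congrArg (fun g : pullback f r ⟶ Y => (g : _ → _))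
      (pullback.condition (f := f) (g := r)))
    simp only [Scheme.Hom.comp_base, TopCat.coe_comp, Function.comp_apply] at this
    rw [this, hry]
  haveI : Nonempty ι := by
    obtain ⟨x₀, hx₀⟩ := hfib.nonempty
    obtain ⟨U, hUs, hxU⟩ := hcov x₀ (by rw [hx₀]; exact hηV)
    exact ⟨⟨U, hUs, x₀, hxU, hx₀⟩⟩
  refine irreducibleSpace_of_open_cover
    (fun i : ι => (((pullback.fst f r) ⁻¹ᵁ (i.1 : X.Opens) : (pullback f r).Opens) :
      Set ↥(pullback f r)))
    (fun i => ((pullback.fst f r) ⁻¹ᵁ (i.1 : X.Opens)).isOpen) ?_ ?_ ?_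
  · intro i
    exact (hV₁ y hy1 i.1 i.2.1).1 i.2.2 Ω r hry
  · intro z
    obtain ⟨U, hUs, hzU⟩ := hcov ((pullback.fst f r) z) (by rw [hpt z]; exact hyV₀)
    by_cases hd : ∃ x ∈ (U : X.Opens), f x = η
    · exact ⟨⟨U, hUs, hd⟩, hzU⟩
    · exact absurd (hpt z) ((hV₁ y hy1 U hUs).2 hd _ hzU)
  · intro i j
    obtain ⟨x, hxi, hxj, hfx⟩ := hV₂ (i.1, j.1) ⟨i.2.1, j.2.1⟩ y hy2 i.2.2 j.2.2
    obtain ⟨z, hz, -⟩ := Scheme.Pullback.exists_preimage_pullback (f := f) (g := r) x default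
      (by rw [hfx])
    refine ⟨z, ?_, ?_⟩
    · change (pullback.fst f r) z ∈ (i.1 : X.Opens)
      rw [hz]; exact hxi
    · change (pullback.fst f r) z ∈ (j.1 : X.Opens)
      rw [hz]; exact hxj

end Groth.Agent.H7.GeomIrr
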